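import Cfsg.Agent.Lib.Invol.HJ.Uniq.Gens

/-! A group of Hall-Janko type is determined up to isomorphism. -/

set_option autoImplicit false
set_option linter.unusedSectionVars false

universe u v

namespace Cfsg.Agent.Invol.HJ.Uniq

open Cfsg

theorem jT_ok : jT.Checked := jT.checked jT_check

/-- The permutation given by a generator. -/
def sigma (s : ℕ) : Equiv.Perm (Fin jT.N) :=
  if hs : s < jT.n then
    { toFun := fun b => ⟨jT.tgt b (jT.iv s), jT_ok.lt b b.isLt _ (jT_ok.iv_lt s hs)⟩
      invFun := fun b => ⟨jT.tgt b s, jT_ok.lt b b.isLt _ hs⟩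
      left_inv := fun b => Fin.ext (by
        have h2 : jT.iv (jT.iv s) = s := by
          have hs' : s < 10 := hs
          interval_cases s <;> rfl
        have := jT_ok.back b b.isLt _ (jT_ok.iv_lt s hs)
        rw [h2] at this
        exact this)
      right_inv := fun b => Fin.ext (jT_ok.back b b.isLt s hs) }
  else 1

/-- The standard group. -/
def PJ : Subgroup (Equiv.Perm (Fin jT.N)) := Subgroup.closure {p | ∃ s < jT.n, sigma s = p}

variable {G : Type u} [Group G] [Finite G] {z : G} {Q : Subgroup G}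

/-- A group of Hall-Janko type is the standard permutation group. -/
theorem iso_standard (h : Setting z Q) : Nonempty (G ≃* PJ) := by
  classical
  obtain ⟨g, H, hinv, hrels, hsub, hg0, hcard, hHS, hcore⟩ := exists_gens h
  have hall := jT.holds_all g jT_ok hinv hrels hsub
  have hinjc := Tab.sep_inj jT_ok (S := jSep)
    (fun b hb => List.all_eq_true.1 jT_sep b (List.mem_range.2 hb)) hall hg0
  let f : Fin jT.N → G ⧸ H := fun b => QuotientGroup.mk (jT.rep g b)⁻¹
  have hfinj : Function.Injective f := fun a b e => by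
    refine Fin.ext (hinjc a a.isLt b b.isLt ?_)
    have := QuotientGroup.eq.1 e
    rw [inv_inv] at this
    exact this
  have hindex : H.index = 840 := by
    have h1 := H.card_mul_index
    rw [hcard, order_eq_j2 h] at h1
    omega
  have hfbij : Function.Bijective f := by
    refine hfinj.bijective_of_nat_card_le ?_
    rw [← Subgroup.index_eq_card, hindex, Nat.card_eq_fintype_card, Fintype.card_fin]
    rfl
  let e := Equiv.ofBijective f hfbij
  let Φ : G →* Equiv.Perm (Fin jT.N) :=
    e.symm.permCongrHom.toMonoidHom.comp (MulAction.toPermHom G (G ⧸ H))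
  have hΦ : ∀ s < jT.n, Φ (g s) = sigma s := by
    intro s hs
    have his := jT_ok.iv_lt s hs
    have hgi : (g s)⁻¹ = g (jT.iv s) := inv_eq_of_mul_eq_one_right (hinv s hs)
    ext b
    have ht := jT_ok.lt b b.isLt _ his
    have h1 : g s • f b = f ⟨jT.tgt b (jT.iv s), ht⟩ := by
      show QuotientGroup.mk (g s * (jT.rep g b)⁻¹) = QuotientGroup.mk (jT.rep g (jT.tgt b (jT.iv s)))⁻¹
      rw [QuotientGroup.eq, mul_inv_rev, inv_inv, hgi]
      exact hall b b.isLt _ his
    have h2 : Φ (g s) b = ⟨jT.tgt b (jT.iv s), ht⟩ := by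
      show e.symm (g s • e b) = _
      rw [Equiv.symm_apply_eq]
      exact h1
    rw [h2]
    simp [sigma, hs]
  have hΦinj : Function.Injective Φ := by
    rw [← MonoidHom.ker_eq_bot_iff]
    refine hcore _ inferInstance fun x hx => ?_
    rw [MonoidHom.mem_ker] at hx
    have hb := congrArg (fun p : Equiv.Perm (Fin jT.N) => p (e.symm ((1 : G) : G ⧸ H))) hx
    have h1 : e.symm (x • e (e.symm ((1 : G) : G ⧸ H))) = e.symm ((1 : G) : G ⧸ H) := hb
    rw [Equiv.apply_symm_apply, e.symm.injective.eq_iff, MulAction.Quotient.smul_coe, smul_eq_mul,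
      mul_one, QuotientGroup.eq, mul_one, inv_mem_iff] at h1
    exact h1
  have hgen : Subgroup.closure {x | ∃ s < jT.n, g s = x} = ⊤ := by
    rw [eq_top_iff]
    intro x _
    set S := Subgroup.closure {x | ∃ s < jT.n, g s = x}
    have hgS : ∀ s < jT.n, g s ∈ S := fun s hs => Subgroup.subset_closure ⟨s, hs, rfl⟩
    have hrep : ∀ fu b, jT.repAux g fu b ∈ S := by
      intro fu
      induction fu with
      | zero => intro b; exact S.one_mem
      | succ fu ih =>
        intro b
        simp only [Tab.repAux]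
        split_ifs
        · exact S.one_mem
        · exact S.mul_mem (ih _) (hgS _ (Nat.mod_lt _ jT_ok.npos))
    obtain ⟨b, hb⟩ := hfbij.2 (QuotientGroup.mk x)
    have h1 := QuotientGroup.eq.1 hb
    rw [inv_inv] at h1
    have h2 := S.mul_mem (S.inv_mem (hrep b b)) (hHS h1)
    simpa [Tab.rep] using h2
  have hrange : Φ.range = PJ := by
    rw [MonoidHom.range_eq_map, ← hgen, MonoidHom.map_closure, PJ]
    congr 1
    ext p
    constructor
    · rintro ⟨x, ⟨s, hs, rfl⟩, rfl⟩; exact ⟨s, hs, (hΦ s hs).symm⟩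
    · rintro ⟨s, hs, rfl⟩; exact ⟨g s, ⟨s, hs, rfl⟩, hΦ s hs⟩
  exact ⟨(MonoidHom.ofInjective hΦinj).trans (MulEquiv.subgroupCongr hrange)⟩

/-- Two groups of Hall-Janko type are isomorphic. -/
theorem iso {K : Type v} [Group K] [Finite K] {z' : K} {Q' : Subgroup K} (h : Setting z Q)
    (h' : Setting z' Q') : Nonempty (G ≃* K) := by
  obtain ⟨a⟩ := iso_standard h
  obtain ⟨b⟩ := iso_standard h'
  exact ⟨a.trans b.symm⟩

end Cfsg.Agent.Invol.HJ.Uniq
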