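import Cfsg.Agent.Lib.Invol.HJ.Uniq.Iso
import Cfsg.Agent.Lib.Spor.J2.Fusion

/-! The Hall-Janko group is a group of Hall-Janko type. -/

set_option autoImplicit false

noncomputable section

namespace Cfsg.Agent.Invol.HJ.Uniq

open Cfsg Cfsg.Spor Cfsg.Agent.J2Cert

universe u

def w4 : J2 := fJ ⟨0, by norm_num⟩ * mJ ⟨4, by norm_num⟩

def w4P (x : ℕ) : ℕ := fP 0 (mP 4 x)

theorem w4_facts : (agree frame (fun x => w4P (w4P x)) id = true) ∧
    (Finset.univ.filter fun x : Fin 315 => w4P x = (x : ℕ)).card = 15 ∧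
    (Finset.univ.filter fun x : Fin 315 => r0P x = (x : ℕ)).card = 11 := by decide +kernel

theorem acts_w4 : Acts w4 w4P := (acts_fJ _).mul (acts_mJ _)

theorem fixed_eq {p : J2} {σ : ℕ → ℕ} (hp : Acts p σ) :
    (Finset.univ.filter fun x : Fin 315 => σ x = (x : ℕ)).card = Nat.card {x : Fin 315 // p • x = x} := by
  rw [Nat.card_eq_fintype_card, Fintype.card_subtype]
  congr 1
  ext x
  simp only [Finset.mem_filter, Finset.mem_univ, true_and, Fin.ext_iff, hp x]

theorem w4_sq : w4 * w4 = 1 := (acts_w4.mul acts_w4).ext acts_one w4_facts.1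

theorem w4_not_conj : ¬ IsConj w4 zJ := by
  intro e
  obtain ⟨c, hc⟩ := isConj_iff.mp e
  have h1 := fixed_eq acts_w4
  have h2 := fixed_eq acts_zJ
  rw [w4_facts.2.1] at h1
  rw [w4_facts.2.2] at h2
  have : Nat.card {x : Fin 315 // w4 • x = x} = Nat.card {x : Fin 315 // zJ • x = x} :=
    Nat.card_congr ((MulAction.toPerm c).subtypeEquiv fun x => by
      simp [← hc, mul_smul])
  omega

theorem qJ_mul (a b : Fin 32) :
    qJ a * qJ b = qJ ⟨qM a b, ((q_row a.isLt).2.2.2 b b.isLt).1⟩ := by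
  unfold qJ
  rw [← qk_mul, Subgroup.coe_mul, Subgroup.coe_mul]

theorem qJ_congr {a b : Fin 32} (h : (a : ℕ) = b) : qJ a = qJ b := congrArg qJ (Fin.ext h)

theorem qJ_inj {a b : Fin 32} (h : qJ a = qJ b) : a = b := by
  unfold qJ at h
  exact qk_inj (Subtype.ext (Subtype.ext h))

theorem zJ_sq : zJ * zJ = 1 ∧ zJ ≠ 1 := by
  have h3 : qM (3 : Fin 32) (3 : Fin 32) = ((0 : Fin 32) : ℕ) := by decide +kernel
  refine ⟨?_, fun e => ?_⟩
  · rw [zJ_eq, qJ_mul, qJ_congr (b := 0) h3, qJ_zero]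
  · rw [zJ_eq, ← qJ_zero] at e
    exact absurd (qJ_inj e) (by decide)

theorem setting_J2 : Setting zJ Q0 := by
  have hz := zJ_sq
  have v3 : ((3 : Fin 32) : ℕ) = 3 := rfl
  refine { hz := orderOf_two_iff'.mpr hz, mem_z := zJ_eq ▸ qJ_mem 3, le_C := Subgroup.map_subtype_le _,
           norm := ?_, card_Q := ?_, sq := ?_, comm := ?_, cen := ?_, cent := ?_, quot := ?_, nwc := ?_, two := ?_ }
  · rintro c hc p hp
    obtain ⟨d, hd, rfl⟩ := hp
    set cC : Cz := ⟨c, hc⟩ with hcC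
    have hk : cC * d * cC⁻¹ ∈ phi.ker := by
      rw [MonoidHom.mem_ker, map_mul, map_mul, map_inv, MonoidHom.mem_ker.1 hd, mul_one, mul_inv_cancel]
    have h' := Subgroup.mem_map_of_mem Cz.subtype hk
    simp only [Subgroup.coe_subtype, Subgroup.coe_mul, Subgroup.coe_inv] at h' ⊢
    exact h'
  · rw [Q0, Subgroup.card_map_of_injective Cz.subtype_injective, card_ker]
  · intro q hq
    obtain ⟨a, rfl⟩ := mem_Q0 hq
    rcases (qz_row a).2.1 with e | e
    · exact Or.inl (by rw [qJ_mul, ← qJ_zero]; exact qJ_congr e)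
    · exact Or.inr (by rw [qJ_mul, zJ_eq]; exact qJ_congr e)
  · intro p hp q hq
    obtain ⟨a, rfl⟩ := mem_Q0 hp
    obtain ⟨b, rfl⟩ := mem_Q0 hq
    rcases (qz_row a).2.2.1 b with e | e
    · exact Or.inl (by rw [qJ_mul, qJ_mul]; exact qJ_congr e)
    · exact Or.inr (by rw [zJ_eq, qJ_mul b a, qJ_mul, qJ_mul]; exact qJ_congr e)
  · intro p hp hc
    obtain ⟨a, rfl⟩ := mem_Q0 hp
    have hcen : qk a ∈ Subgroup.center phi.ker := Subgroup.mem_center_iff.2 fun y => by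
      obtain ⟨b, rfl⟩ := qk_surj y
      exact Subtype.ext (Subtype.ext (hc _ (qJ_mem b)).symm)
    rw [← SetLike.mem_coe, center_ker] at hcen
    rcases hcen with e | e
    · exact Or.inl (by rw [qk_inj e, qJ_zero])
    · exact Or.inr (by rw [qk_inj e, zJ_eq])
  · intro c _ hq
    exact centralizer_Q0 (Subgroup.mem_centralizer_iff.2 fun q hq' => (hq q hq').symm)
  · refine ⟨phi, phi_surj, fun c => ?_⟩
    exact ⟨fun e => ⟨c, e, rfl⟩, fun ⟨d, hd, e⟩ => (Subtype.ext e : d = c) ▸ hd⟩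
  · obtain ⟨k, a, ha, hk⟩ := refl_row (t := 0) (by norm_num)
    refine ⟨eJ k, hk ▸ qJ_mem a, fun e => ?_⟩
    rw [hk, zJ_eq] at e
    have := congrArg Fin.val (qJ_inj e)
    rw [ha] at this
    revert this
    decide +kernel
  · refine ⟨w4, zJ, ?_, orderOf_two_iff'.mpr hz, w4_not_conj⟩
    refine orderOf_two_iff'.mpr ⟨w4_sq, fun e => ?_⟩
    have h1 := fixed_eq (p := w4) acts_w4
    rw [w4_facts.2.1, e] at h1
    simp [Nat.card_eq_fintype_card] at h1

/-- A finite group of Hall-Janko type is the Hall-Janko group. -/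
theorem isoJ2 {G : Type u} [Group G] [Finite G] {z : G} {Q : Subgroup G} (h : Setting z Q) : IsoJ2 G :=
  Uniq.iso h setting_J2

end Cfsg.Agent.Invol.HJ.Uniq
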