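import Mathlib
import Cfsg.Agent.Lib.Spor.Coset

/-! Coset-table certificates for generators closed under inversion, with a certificate that the
cosets of a table are pairwise different. -/

set_option autoImplicit false

namespace Cfsg.Agent.Invol.HJ.Uniq

open Cfsg.Agent.Spor.Coset (ev ev_append)

/-- A table: generator `iv s` is the inverse of generator `s`. -/
structure Tab where
  N : ℕ
  n : ℕ
  iv : ℕ → ℕ
  tgt : ℕ → ℕ → ℕ
  rank : ℕ → ℕ → ℕ
  wit : ℕ → ℕ → ℕ
  par : ℕ → ℕ
  rels : List (List ℕ)
  sub : List (List ℕ)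

namespace Tab

variable (C : Tab)

/-- Walk by edges of rank below `r`. -/
def walk (r : ℕ) : ℕ → List ℕ → ℕ
  | a, [] => a
  | a, s :: w =>
    if decide (a < C.N) && decide (s < C.n) && decide (C.rank a s < r) then walk r (C.tgt a s) w
    else C.N

/-- A scan witness. -/
def scanOk (a s code : ℕ) : Bool :=
  let L := C.rels.length + C.sub.length
  let k := code % 64
  let j := (code / 64) % L
  let a₀ := (code / 64) / L
  let w := (C.rels ++ C.sub).getD j []
  decide (a₀ < C.N) && decide (j < L) && (decide (j < C.rels.length) || Nat.beq a₀ 0) &&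
    decide (k < w.length) && Nat.beq (w.getD k C.n) s &&
    Nat.beq (C.walk (C.rank a s) a₀ (w.take k)) a &&
    Nat.beq (C.walk (C.rank a s) (C.tgt a s) (w.drop (k + 1))) a₀

/-- One edge: `0` is a tree edge, `1` a reversed edge, otherwise a scan code. -/
def edgeOk (a s : ℕ) : Bool :=
  decide (C.tgt a s < C.N) &&
    bif Nat.beq (C.wit a s) 0 then
      !(Nat.beq (C.tgt a s) 0) && Nat.beq (C.par (C.tgt a s)) (a * C.n + s)
    else bif Nat.beq (C.wit a s) 1 then
      decide (C.rank (C.tgt a s) (C.iv s) < C.rank a s) && Nat.beq (C.tgt (C.tgt a s) (C.iv s)) a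
    else C.scanOk a s (C.wit a s - 2)

/-- The parent of a coset is smaller, and the tree is in the table. -/
def parOk (b : ℕ) : Bool :=
  Nat.beq b 0 || (decide (C.par b / C.n < b) && Nat.beq (C.tgt (C.par b / C.n) (C.par b % C.n)) b)

/-- The table is an action of the free group. -/
def actOk (a s : ℕ) : Bool := Nat.beq (C.tgt (C.tgt a s) (C.iv s)) a

/-- The whole check. -/
def check : Bool :=
  decide (0 < C.N) && decide (0 < C.n) &&
    ((List.range C.n).all fun s => decide (C.iv s < C.n)) &&
    (List.range C.N).all fun a =>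
      C.parOk a && (List.range C.n).all fun s => C.edgeOk a s && C.actOk a s

/-- The end of a walk. -/
def run (a : ℕ) : List ℕ → ℕ
  | [] => a
  | s :: w => run (C.tgt a s) w

variable {G : Type*} [Group G] (g : ℕ → G)

/-- Representatives, with fuel. -/
def repAux : ℕ → ℕ → G
  | 0, _ => 1
  | f + 1, b => if b = 0 then 1 else repAux f (C.par b / C.n) * g (C.par b % C.n)

/-- The representative of a coset. -/
def rep (b : ℕ) : G := C.repAux g b b

structure Checked : Prop where
  pos : 0 < C.N
  npos : 0 < C.n
  iv_lt : ∀ s < C.n, C.iv s < C.n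
  par : ∀ b < C.N, b ≠ 0 → C.par b / C.n < b ∧ C.tgt (C.par b / C.n) (C.par b % C.n) = b
  edge : ∀ a < C.N, ∀ s < C.n, C.edgeOk a s = true
  lt : ∀ a < C.N, ∀ s < C.n, C.tgt a s < C.N
  back : ∀ a < C.N, ∀ s < C.n, C.tgt (C.tgt a s) (C.iv s) = a

theorem checked (h : C.check = true) : C.Checked := by
  simp only [check, Bool.and_eq_true, decide_eq_true_eq, List.all_eq_true, List.mem_range] at h
  obtain ⟨⟨⟨h1, h2⟩, h3⟩, h4⟩ := h
  refine ⟨h1, h2, h3, fun b hb h0 => ?_, fun a ha s hs => ((h4 a ha).2 s hs).1,
    fun a ha s hs => ?_, fun a ha s hs => Nat.eq_of_beq_eq_true ((h4 a ha).2 s hs).2⟩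
  · have := (h4 b hb).1
    simp only [parOk, Bool.or_eq_true, Bool.and_eq_true, decide_eq_true_eq] at this
    rcases this with e | ⟨e1, e2⟩
    · exact absurd (Nat.eq_of_beq_eq_true e) h0
    · exact ⟨e1, Nat.eq_of_beq_eq_true e2⟩
  · have := ((h4 a ha).2 s hs).1
    simp only [edgeOk, Bool.and_eq_true, decide_eq_true_eq] at this
    exact this.1

theorem repAux_eq (hp : C.Checked) :
    ∀ f b, b < C.N → b ≤ f → C.repAux g f b = C.repAux g b b := by
  intro f
  induction f using Nat.strong_induction_on with
  | _ f ih =>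
    intro b hb hbf
    rcases f with _ | f
    · rw [Nat.le_zero.mp hbf]
    rcases b with _ | b
    · simp [repAux]
    have h := (hp.par (b + 1) hb (by omega)).1
    simp only [repAux, Nat.add_one_ne_zero, if_false]
    rw [ih f (Nat.lt_succ_self f) _ (by omega) (by omega)]
    rcases Nat.lt_or_ge b f with hlt | hge
    · rw [ih b (by omega) _ (by omega) (by omega)]
    · rw [show b = f by omega] at h ⊢
      rw [ih f (Nat.lt_succ_self f) _ (by omega) (by omega)]

theorem rep_step (hp : C.Checked) {b : ℕ} (hb : b < C.N) (h0 : b ≠ 0) :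
    C.rep g b = C.rep g (C.par b / C.n) * g (C.par b % C.n) := by
  obtain ⟨c, rfl⟩ := Nat.exists_eq_succ_of_ne_zero h0
  have h := (hp.par (c + 1) hb (by omega)).1
  show C.repAux g (c + 1) (c + 1) = _
  rw [repAux, if_neg (Nat.add_one_ne_zero c), C.repAux_eq g hp c _ (by omega) (by omega)]
  rfl

theorem rep_zero : C.rep g 0 = 1 := by simp [rep, repAux]

/-- The edge is true in the group. -/
def Holds (H : Subgroup G) (a s : ℕ) : Prop := C.rep g a * g s * (C.rep g (C.tgt a s))⁻¹ ∈ H

theorem walk_sound {H : Subgroup G} {r : ℕ}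
    (hr : ∀ a < C.N, ∀ s < C.n, C.rank a s < r → C.Holds g H a s) :
    ∀ (w : List ℕ) (a b : ℕ), C.walk r a w = b → b < C.N →
      C.rep g a * ev g w * (C.rep g b)⁻¹ ∈ H
  | [], a, b, h, _ => by
    simp only [walk] at h
    subst h
    simp [ev]
  | s :: w, a, b, h, hb => by
    simp only [walk] at h
    split at h
    · next hc =>
      simp only [Bool.and_eq_true, decide_eq_true_eq] at hc
      have h1 := hr a hc.1.1 s hc.1.2 hc.2
      have h2 := walk_sound hr w _ b h hb
      have := H.mul_mem h1 h2
      simp only [ev]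
      simpa [mul_assoc] using this
    · omega

theorem holds_all (hc : C.Checked) {H : Subgroup G} (hinv : ∀ s < C.n, g s * g (C.iv s) = 1)
    (hrels : ∀ w ∈ C.rels, ev g w = 1) (hsub : ∀ w ∈ C.sub, ev g w ∈ H) :
    ∀ a < C.N, ∀ s < C.n, C.Holds g H a s := by
  suffices H' : ∀ r, ∀ a < C.N, ∀ s < C.n, C.rank a s = r → C.Holds g H a s from
    fun a ha s hs => H' _ a ha s hs rfl
  intro r
  induction r using Nat.strong_induction_on with
  | _ r ih =>
    intro a ha s hs hr
    have hlt : ∀ a' < C.N, ∀ s' < C.n, C.rank a' s' < C.rank a s → C.Holds g H a' s' :=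
      fun a' ha' s' hs' h => ih _ (hr ▸ h) a' ha' s' hs' rfl
    have he := hc.edge a ha s hs
    simp only [edgeOk, Bool.and_eq_true, decide_eq_true_eq] at he
    obtain ⟨ht, he⟩ := he
    cases h0 : Nat.beq (C.wit a s) 0 with
    | true =>
      rw [h0, cond_true, Bool.and_eq_true, Bool.not_eq_true'] at he
      have hne : C.tgt a s ≠ 0 := fun e => by rw [e, Nat.beq_refl] at he; exact Bool.noConfusion he.1
      unfold Holds
      rw [C.rep_step g hc ht hne, Nat.eq_of_beq_eq_true he.2, Nat.add_comm,
        Nat.add_mul_div_right _ _ hc.npos, Nat.div_eq_of_lt hs, Nat.add_mul_mod_self_right,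
        Nat.mod_eq_of_lt hs, Nat.zero_add, mul_inv_cancel]
      exact H.one_mem
    | false =>
      rw [h0, cond_false] at he
      cases h1' : Nat.beq (C.wit a s) 1 with
      | true =>
        rw [h1', cond_true, Bool.and_eq_true, decide_eq_true_eq] at he
        have h1 := hlt _ ht _ (hc.iv_lt s hs) he.1
        unfold Holds at h1 ⊢
        rw [Nat.eq_of_beq_eq_true he.2] at h1
        have := H.inv_mem h1
        have hi : (g (C.iv s))⁻¹ = g s := inv_eq_of_mul_eq_one_left (hinv s hs)
        simpa [mul_assoc, hi] using this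
      | false =>
        rw [h1', cond_false] at he
        simp only [scanOk, Bool.and_eq_true, decide_eq_true_eq, Bool.or_eq_true] at he
        obtain ⟨⟨⟨⟨⟨⟨ha₀, hj⟩, hz⟩, hk⟩, hs'⟩, hw1⟩, hw2⟩ := he
        generalize C.wit a s - 2 = code at *
        generalize code / 64 / (C.rels.length + C.sub.length) = a₀ at *
        generalize code / 64 % (C.rels.length + C.sub.length) = j at *
        generalize code % 64 = k at *
        generalize hw : (C.rels ++ C.sub).getD j [] = w at *
        have e1 := C.walk_sound g hlt _ _ _ (Nat.eq_of_beq_eq_true hw1) ha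
        have e2 := C.walk_sound g hlt _ _ _ (Nat.eq_of_beq_eq_true hw2) ha₀
        have hwdec : w = w.take k ++ s :: w.drop (k + 1) := by
          have hs'' := Nat.eq_of_beq_eq_true hs'
          rw [List.getD_eq_getElem _ _ hk] at hs''
          rw [← hs'', List.getElem_cons_drop, List.take_append_drop]
        have hev : C.rep g a₀ * ev g w * (C.rep g a₀)⁻¹ ∈ H := by
          have hmem : j < (C.rels ++ C.sub).length := by rw [List.length_append]; omega
          rw [List.getD_eq_getElem _ _ hmem] at hw
          by_cases hjr : j < C.rels.length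
          · rw [List.getElem_append_left hjr] at hw
            rw [hrels w (hw ▸ List.getElem_mem hjr)]
            simp
          · rcases hz with hz | hz
            · exact absurd hz hjr
            · rw [List.getElem_append_right (by omega)] at hw
              rw [Nat.eq_of_beq_eq_true hz, C.rep_zero g, one_mul, inv_one, mul_one]
              exact hsub w (hw ▸ List.getElem_mem _)
        rw [hwdec, ev_append] at hev
        simp only [ev] at hev
        have := H.mul_mem (H.mul_mem (H.inv_mem e1) hev) (H.inv_mem e2)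
        unfold Holds
        simpa [mul_assoc] using this

theorem run_lt (hc : C.Checked) :
    ∀ (w : List ℕ) (a : ℕ), a < C.N → (∀ s ∈ w, s < C.n) → C.run a w < C.N
  | [], _, ha, _ => ha
  | s :: w, a, ha, hw => run_lt hc w _ (hc.lt a ha s (hw s List.mem_cons_self))
      fun t ht => hw t (List.mem_cons_of_mem _ ht)

theorem run_holds (hc : C.Checked) {H : Subgroup G}
    (hall : ∀ a < C.N, ∀ s < C.n, C.Holds g H a s) :
    ∀ (w : List ℕ) (a : ℕ), a < C.N → (∀ s ∈ w, s < C.n) →
      C.rep g a * ev g w * (C.rep g (C.run a w))⁻¹ ∈ H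
  | [], a, _, _ => by simp [run, ev]
  | s :: w, a, ha, hw => by
    have hs := hw s List.mem_cons_self
    have h1 := hall a ha s hs
    have h2 := run_holds hc hall w _ (hc.lt a ha s hs) fun t ht => hw t (List.mem_cons_of_mem _ ht)
    have := H.mul_mem h1 h2
    simp only [ev, run]
    simpa [Holds, mul_assoc] using this

/-- Two numbers name one coset. -/
def Same (H : Subgroup G) (a b : ℕ) : Prop := C.rep g a * (C.rep g b)⁻¹ ∈ H

variable {C} {g}

theorem Same.symm {H : Subgroup G} {a b : ℕ} (h : C.Same g H a b) : C.Same g H b a := by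
  simpa [Same] using H.inv_mem h

theorem Same.trans {H : Subgroup G} {a b c : ℕ} (h : C.Same g H a b) (h' : C.Same g H b c) :
    C.Same g H a c := by
  simpa [Same, mul_assoc] using H.mul_mem h h'

theorem Same.move (hc : C.Checked) {H : Subgroup G}
    (hall : ∀ a < C.N, ∀ s < C.n, C.Holds g H a s) {a b : ℕ} (ha : a < C.N) (hb : b < C.N)
    {w : List ℕ} (hw : ∀ s ∈ w, s < C.n) (h : C.Same g H a b) :
    C.Same g H (C.run a w) (C.run b w) := by
  have h1 := C.run_holds g hc hall w a ha hw
  have h2 := C.run_holds g hc hall w b hb hw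
  have := H.mul_mem (H.mul_mem (H.inv_mem h1) h) h2
  simpa [Same, mul_assoc] using this

variable (C)

/-- Data showing that the cosets are different: `stp` moves a coset to one of smaller depth by a
generator fixing the first coset; `chain` joins the first coset to its image under generator `0`
by translates of the given pair. -/
structure Sep where
  stp : ℕ → ℕ
  depth : ℕ → ℕ
  chain : ℕ → List (Bool × List ℕ)

/-- Check of a chain. -/
def chainOk (o : ℕ) : List (Bool × List ℕ) → ℕ → Bool
  | [], x => Nat.beq x (C.tgt 0 0)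
  | (f, v) :: l, x =>
    (v.all fun s => decide (s < C.n)) && Nat.beq (C.run (bif f then o else 0) v) x &&
      chainOk o l (C.run (bif f then 0 else o) v)

/-- Check of one coset. -/
def sepOk (S : Sep) (b : ℕ) : Bool :=
  Nat.beq b 0 ||
    (bif Nat.beq (S.stp b) 0 then C.chainOk b (S.chain b) 0
     else decide (S.stp b < C.n) && Nat.beq (C.tgt 0 (S.stp b)) 0 &&
      decide (S.depth (C.tgt b (S.stp b)) < S.depth b) && !(Nat.beq (C.tgt b (S.stp b)) 0))

variable {C}

theorem chain_sound (hc : C.Checked) {H : Subgroup G}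
    (hall : ∀ a < C.N, ∀ s < C.n, C.Holds g H a s) {o : ℕ} (ho : o < C.N)
    (h : C.Same g H 0 o) : ∀ (l : List (Bool × List ℕ)) (x : ℕ),
      C.chainOk o l x = true → C.Same g H 0 x → C.Same g H 0 (C.tgt 0 0)
  | [], x, hl, hx => Nat.eq_of_beq_eq_true hl ▸ hx
  | (f, v) :: l, x, hl, hx => by
    simp only [chainOk, Bool.and_eq_true, List.all_eq_true, decide_eq_true_eq] at hl
    obtain ⟨⟨hv, hx'⟩, hl⟩ := hl
    refine chain_sound hc hall ho h l _ hl (hx.trans ?_)
    rw [← Nat.eq_of_beq_eq_true hx']
    cases f with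
    | false => exact h.move hc hall hc.pos ho hv
    | true => exact (h.move hc hall hc.pos ho hv).symm

theorem sep_inj (hc : C.Checked) {S : Sep} (hS : ∀ b < C.N, C.sepOk S b = true) {H : Subgroup G}
    (hall : ∀ a < C.N, ∀ s < C.n, C.Holds g H a s) (hg : g 0 ∉ H) :
    ∀ a < C.N, ∀ b < C.N, C.Same g H a b → a = b := by
  have hzero : ∀ b < C.N, C.Same g H 0 b → b = 0 := by
    intro b
    induction hd : S.depth b using Nat.strong_induction_on generalizing b with
    | _ d ih =>
      intro hb h
      have hr := hS b hb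
      simp only [sepOk, Bool.or_eq_true] at hr
      rcases hr with hr | hr
      · exact Nat.eq_of_beq_eq_true hr
      · exfalso
        cases hs : Nat.beq (S.stp b) 0 with
        | true =>
          rw [hs] at hr
          have h1 : C.Same g H 0 (C.tgt 0 0) :=
            chain_sound hc hall hb h _ 0 hr (by simp [Same])
          have h2 := hall 0 hc.pos 0 hc.npos
          apply hg
          unfold Holds at h2
          unfold Same at h1
          rw [C.rep_zero g, one_mul] at h1 h2
          have h3 := H.mul_mem h2 (H.inv_mem h1)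
          simpa [mul_assoc] using h3
        | false =>
          rw [hs] at hr
          simp only [cond_false, Bool.and_eq_true, decide_eq_true_eq, Bool.not_eq_true'] at hr
          obtain ⟨⟨⟨hsn, hfix⟩, hdec⟩, hne⟩ := hr
          have hm := h.move hc hall hc.pos hb (w := [S.stp b]) (by simp [hsn])
          simp only [run] at hm
          rw [Nat.eq_of_beq_eq_true hfix] at hm
          have := ih _ (hd ▸ hdec) _ rfl (hc.lt b hb _ hsn) hm
          rw [this, Nat.beq_refl] at hne
          exact Bool.noConfusion hne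
  intro a
  induction a using Nat.strong_induction_on with
  | _ a ih =>
    intro ha b hb h
    by_cases h1 : a = 0
    · subst h1
      exact (hzero b hb h).symm
    obtain ⟨hlt, htg⟩ := hc.par a ha h1
    have hp : C.par a / C.n < C.N := by omega
    have hmod : C.par a % C.n < C.n := Nat.mod_lt _ hc.npos
    have hiv := hc.iv_lt _ hmod
    have hm := h.move hc hall ha hb (w := [C.iv (C.par a % C.n)]) (by simp [hiv])
    simp only [run] at hm
    have e1 := hc.back _ hp _ hmod
    rw [htg] at e1
    rw [e1] at hm
    have e2 := ih _ hlt hp _ (hc.lt b hb _ hiv) hm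
    -- apply the generator again
    have e3 : C.tgt (C.tgt b (C.iv (C.par a % C.n))) (C.par a % C.n) = a := by rw [← e2]; exact htg
    have hinj : ∀ x < C.N, ∀ y < C.N, ∀ s < C.n, C.tgt x s = C.tgt y s → x = y := fun x hx y hy s hs e => by
      rw [← hc.back x hx s hs, ← hc.back y hy s hs, e]
    exact hinj a ha b hb _ hiv (e1.trans e2)

end Tab

end Cfsg.Agent.Invol.HJ.Uniq
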