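import Cfsg.Agent.Lib.Invol.HJ.Uniq.Data

/-! Kernel checks of the table. -/

set_option autoImplicit false
set_option maxRecDepth 100000

namespace Cfsg.Agent.Invol.HJ.Uniq

theorem jT_check : jT.check = true := by decide +kernel

theorem jT_sep : ((List.range jT.N).all fun b => jT.sepOk jSep b) = true := by decide +kernel

end Cfsg.Agent.Invol.HJ.Uniq
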