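import Cfsg.Agent.Lib.Invol.HJ.Uniq.Rotate
import Cfsg.Agent.Lib.Invol.HJ.Uniq.Check

/-! A group of Hall-Janko type has generators satisfying the relations of the table. -/

set_option autoImplicit false
set_option linter.unusedSectionVars false
set_option linter.style.haveILetI false

namespace Cfsg.Agent.Invol.HJ.Uniq

open Cfsg

variable {G : Type*} [Group G] [Finite G] {z : G} {Q : Subgroup G} {t x σ r a q : G} {K : Subgroup G}

/-- The generators `q t u a a⁻¹ z x r r⁻¹ k`. -/
def gen (q t a z x r k : G) : ℕ → G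
  | 0 => q
  | 1 => t
  | 2 => a * t * a⁻¹
  | 3 => a
  | 4 => a⁻¹
  | 5 => z
  | 6 => x
  | 7 => r
  | 8 => r⁻¹
  | 9 => k
  | _ => 1

theorem comm_word {a b : G} (h : a * b = b * a) : a * (b * (a⁻¹ * b⁻¹)) = 1 := by
  rw [← mul_assoc, ← mul_assoc, h]
  group

/-- The choice of `q` and `k`. -/
theorem exists_qk (g : Good z Q t x σ r) (h : Setting z Q) (c : Comp z t x r K) (R : Rot z t x r a K) :
    ∃ q k, QOK z Q x a q ∧ k ∈ K ∧ k * k = 1 ∧ k ≠ 1 ∧ k ≠ z ∧ (z * k) ^ 5 = 1 ∧ (x * k) ^ 5 = 1 ∧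
      (r * k) ^ 3 = 1 ∧ (r * z * k) ^ 2 = 1 ∧ (q * z * k) ^ 3 = 1 ∧
      (q * r * q * r = a ∨ q * r * q * r = a⁻¹) := by
  classical
  obtain ⟨q, o⟩ := exists_q g h R
  set C := Subgroup.centralizer ({a} : Set G) with hC
  obtain ⟨ψ, hker, hsign, hsurj, hfix⟩ := exists_six g h c R o
  have hmemC : ∀ {y : G}, y ∈ C ↔ y * a = a * y := Subgroup.mem_centralizer_singleton_iff
  have hKC : ∀ k ∈ K, k ∈ C := fun k hk => hmemC.mpr (R.aK k hk).symm
  let zC : C := ⟨z, hKC z c.zK⟩
  let xC : C := ⟨x, hKC x c.xK⟩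
  let rC : C := ⟨r, hKC r c.rK⟩
  let qC : C := ⟨q, hmemC.mpr o.qa⟩
  -- nontrivial elements
  have hK1 : ∀ (w : C), (w : G) ∈ K → ψ w = 1 → (w : G) = 1 := fun w hw hw1 => by
    obtain ⟨i, hi⟩ := (hker w).mp hw1
    rw [hi]; exact pow_K g h c R (hi ▸ hw)
  have hKeq : ∀ w : C, (w : G) ∈ K → ∀ w' : C, (w' : G) ∈ K → ψ w = ψ w' → (w : G) = w' := fun w hw w' hw' e => by
    have := hK1 (w * w'⁻¹) (K.mul_mem hw (K.inv_mem hw')) (by rw [map_mul, map_inv, e, mul_inv_cancel])
    exact mul_inv_eq_one.mp this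
  have hx2 : xC * xC = 1 := Subtype.ext g.L.xX.2.1
  have hz2 : zC * zC = 1 := Subtype.ext h.z_sq
  have hq2 : qC * qC = 1 := Subtype.ext o.mem.2.1
  have hq1 : ψ qC ≠ 1 := fun e => by
    obtain ⟨i, hi⟩ := (hker qC).mp e
    exact o.mem.2.2.1 (hi.trans (pow_two_one R.a3 (by rw [← hi]; exact o.mem.2.1)))
  have hqx : qC * xC = zC * xC * qC := Subtype.ext (by
    show q * x = z * x * q
    rw [← o.qx g h, mul_assoc, o.mem.2.1, mul_one])
  have hrz : rC * zC = xC * rC := Subtype.ext (mul_inv_eq_iff_eq_mul.mp g.rz)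
  have hrx : rC * xC = zC * xC * rC := Subtype.ext (mul_inv_eq_iff_eq_mul.mp g.rx)
  have hzx : zC * xC = xC * zC := Subtype.ext (h.zq g.L.xX.1).symm
  obtain ⟨kp, ⟨hk5, hk2, hk1, hkz⟩, hks, e1, e2, e3, e4, halt⟩ := six_pick (ψ zC)
    ⟨hfix zC c.zK, by rw [← map_mul, hz2, map_one], fun e => h.ne_one (hK1 zC c.zK e), hsign _⟩ (ψ xC)
    ⟨hfix xC c.xK, by rw [← map_mul, hx2, map_one], fun e => g.L.xX.2.2.1 (hK1 xC c.xK e),
      fun e => x_ne_z g (hKeq xC c.xK zC c.zK e), by rw [← map_mul, ← map_mul, hzx], hsign _⟩ (ψ rC)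
    ⟨hfix rC c.rK, by rw [← map_mul, ← map_mul, show rC * rC * rC = 1 from Subtype.ext (r_three g h c), map_one],
      by rw [← map_mul, ← map_mul, hrz], by rw [← map_mul, ← map_mul, ← map_mul, hrx]⟩ (ψ qC)
    ⟨by rw [← map_mul, hq2, map_one],
      by rw [← map_mul, ← map_mul, show qC * zC = zC * qC from Subtype.ext (o.qz h)],
      by rw [← map_mul, ← map_mul, ← map_mul, hqx], hq1, hsign _⟩
  obtain ⟨kC, hkK, rfl⟩ := hsurj kp hk5 hks
  set k := (kC : G) with hk
  have hrel : ∀ (w : C), (w : G) ∈ K → ψ w = 1 → (w : G) = 1 := hK1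
  have k2 : k * k = 1 := hrel (kC * kC) (K.mul_mem hkK hkK) (by rw [map_mul, hk2])
  have kne : k ≠ 1 := fun e => hk1 (by rw [show kC = 1 from Subtype.ext e, map_one])
  have knz : k ≠ z := fun e => hkz (by rw [show kC = zC from Subtype.ext e])
  have f1 : (z * k) ^ 5 = 1 := hrel ((zC * kC) ^ 5) (K.pow_mem (K.mul_mem c.zK hkK) 5) (by rw [map_pow, map_mul, e1])
  have f2 : (x * k) ^ 5 = 1 := hrel ((xC * kC) ^ 5) (K.pow_mem (K.mul_mem c.xK hkK) 5) (by rw [map_pow, map_mul, e2])
  have f3 : (r * k) ^ 3 = 1 := hrel ((rC * kC) ^ 3) (K.pow_mem (K.mul_mem c.rK hkK) 3) (by rw [map_pow, map_mul, e3])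
  have f4 : (r * z * k) ^ 2 = 1 := hrel ((rC * zC * kC) ^ 2)
    (K.pow_mem (K.mul_mem (K.mul_mem c.rK c.zK) hkK) 2) (by rw [map_pow, map_mul, map_mul, e4])
  -- the two choices
  have key : ∀ q' : G, ∀ o' : QOK z Q x a q', ∀ q'C : C, (q'C : G) = q' →
      ψ q'C * ψ rC * (ψ q'C * ψ rC) = 1 → (ψ q'C * ψ zC * ψ kC) ^ 3 = 1 →
      (q' * z * k) ^ 3 = 1 ∧ (q' * r * q' * r = a ∨ q' * r * q' * r = a⁻¹) := by
    intro q' o' q'C hq' h1 h2
    obtain ⟨hq'Q, hq'2, -, -⟩ := o'.mem
    constructor
    · obtain ⟨j, hj⟩ := (hker ((q'C * zC * kC) ^ 3)).mp (by rw [map_pow, map_mul, map_mul, h2])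
      change ((q'C : G) * z * k) ^ 3 = a ^ j at hj
      rw [hq'] at hj
      have hinv : (q' * z * k)⁻¹ = k * (q' * z * k) * k := by
        rw [mul_inv_rev, mul_inv_rev, inv_eq_of_mul_eq_one_right k2, inv_eq_of_mul_eq_one_right h.z_sq,
          inv_eq_of_mul_eq_one_right hq'2, show k * (q' * z * k) * k = k * (q' * z) * (k * k) by simp only [mul_assoc],
          k2, mul_one, o'.qz h]
      have hck : k * a ^ j * k = a ^ j := by
        rw [← (Commute.pow_left (R.aK k hkK) j).eq, mul_assoc, k2, mul_one]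
      have h3 : ((q' * z * k)⁻¹) ^ 3 = k * (q' * z * k) ^ 3 * k := by
        have := conj_pow (i := 3) (a := k) (b := q' * z * k)
        rw [inv_eq_of_mul_eq_one_right k2] at this
        rw [hinv, this]
      rw [inv_pow, hj, hck] at h3
      rw [hj]
      exact pow_two_one R.a3 (mul_eq_one_iff_eq_inv.mpr h3.symm)
    · obtain ⟨i, hi⟩ := (hker (q'C * rC * (q'C * rC))).mp (by rw [map_mul, map_mul, h1])
      change (q'C : G) * r * ((q'C : G) * r) = a ^ i at hi
      rw [hq', ← mul_assoc] at hi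
      rcases pow_cases R.a3 i with e | e | e
      · exfalso
        rw [e] at hi
        obtain ⟨h4, -⟩ := o'.qt4 g h
        have hr : r * q' * r⁻¹ = r⁻¹ * q' := by
          have hqr : q' * r * q' = r⁻¹ := eq_inv_of_mul_eq_one_left hi
          have : r * q' = q' * r⁻¹ := by
            rw [← hqr, ← mul_assoc, ← mul_assoc, hq'2, one_mul]
          have h' : q' * r = r⁻¹ * q' := by
            rw [← hqr, mul_assoc (q' * r), hq'2, mul_one]
          calc r * q' * r⁻¹ = r * (q' * r⁻¹) := mul_assoc _ _ _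
            _ = r * (r * q') := by rw [this]
            _ = (r * r * r) * (r⁻¹ * q') := by group
            _ = r⁻¹ * q' := by rw [r_three g h c, one_mul]
        have hrt : Commute r t := g.rt
        have hcr : Commute r (q' * t * q' * t) := by
          have h2' : r * q' * r⁻¹ * t * (r * q' * r⁻¹) * t = q' * t * q' * t := by
            rw [hr]
            have hqr : q' * r⁻¹ = r * q' := by
              have : q' * r * q' = r⁻¹ := eq_inv_of_mul_eq_one_left hi
              rw [← this, ← mul_assoc, ← mul_assoc, hq'2, one_mul]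
            calc r⁻¹ * q' * t * (r⁻¹ * q') * t = r⁻¹ * q' * (t * r⁻¹) * q' * t := by simp only [mul_assoc]
              _ = r⁻¹ * (q' * r⁻¹) * t * q' * t := by rw [(hrt.symm.inv_right).eq]; simp only [mul_assoc]
              _ = r⁻¹ * (r * q') * t * q' * t := by rw [hqr]
              _ = q' * t * q' * t := by rw [inv_mul_cancel_left]
          have h3 : r * (q' * t * q' * t) * r⁻¹ = q' * t * q' * t := by
            calc r * (q' * t * q' * t) * r⁻¹ = r * q' * r⁻¹ * (r * t * r⁻¹) * (r * q' * r⁻¹) * (r * t * r⁻¹) := by group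
              _ = _ := by rw [hrt.eq, mul_inv_cancel_right]; exact h2'
          exact mul_inv_eq_iff_eq_mul.mp h3
        apply z_not_comm_r g
        rw [← h4]
        exact (Commute.mul_right hcr hcr).eq
      · exact Or.inl (hi.trans e)
      · refine Or.inr (hi.trans (e.trans (inv_eq_of_mul_eq_one_right (by rw [← mul_assoc]; exact R.a3)).symm))
  rcases halt with ⟨h1, h2⟩ | ⟨h1, h2⟩
  · obtain ⟨g1, g2⟩ := key q o qC rfl h1 h2
    exact ⟨q, k, o, hkK, k2, kne, knz, f1, f2, f3, f4, g1, g2⟩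
  · obtain ⟨g1, g2⟩ := key (q * z) (o.mul_z g h R) (qC * zC) rfl (by rw [map_mul]; exact h1)
      (by rw [map_mul]; exact h2)
    exact ⟨q * z, k, o.mul_z g h R, hkK, k2, kne, knz, f1, f2, f3, f4, g1, g2⟩

/-- The three involutions of the four group. -/
theorem four_facts (g : Good z Q t x σ r) (h : Setting z Q) (R : Rot z t x r a K) :
    let u := a * t * a⁻¹
    u ∈ vfix z t r ∧ u * u = 1 ∧ t * u = u * t ∧ a * u * a⁻¹ = t * u ∧
      ∀ v ∈ vfix z t r, v = 1 ∨ v = t ∨ v = u ∨ v = t * u := by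
  classical
  intro u
  have hu : u ∈ vfix z t r := R.aV t g.t_mem_V
  have hcm : ∀ v ∈ vfix z t r, ∀ w ∈ vfix z t r, v * w = w * v ∧ v * v = 1 := fun v hv w hw =>
    ⟨g.mul_comm' h.toCore (Subgroup.mem_inf.mp hv).1 (Subgroup.mem_inf.mp hw).1, g.sq h.toCore (Subgroup.mem_inf.mp hv).1⟩
  have ht1 : t ≠ 1 := fun e => g.tQ (e ▸ Q.one_mem)
  have hut : u ≠ t := fun e => R.at' (mul_inv_eq_iff_eq_mul.mp e)
  have hu1 : u ≠ 1 := fun e => ht1 (by simpa using mul_inv_eq_one.mp e)
  have htu : t * u ≠ 1 := fun e => hut (by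
    rw [eq_inv_of_mul_eq_one_right e]; exact inv_eq_of_mul_eq_one_right g.t2)
  have htut : t * u ≠ t := fun e => hu1 (mul_eq_left.mp e)
  have htuu : t * u ≠ u := fun e => ht1 (mul_eq_right.mp e)
  let S : Finset G := {1, t, u, t * u}
  have hS : S.card = 4 := by
    rw [Finset.card_insert_of_notMem (by simp [Ne.symm ht1, Ne.symm hu1, Ne.symm htu]),
      Finset.card_insert_of_notMem (by simp [Ne.symm hut, Ne.symm htut]),
      Finset.card_pair (Ne.symm htuu)]
  have hall : ∀ v ∈ vfix z t r, v = 1 ∨ v = t ∨ v = u ∨ v = t * u := by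
    intro v hv
    by_contra hcon
    push Not at hcon
    obtain ⟨h1, h2, h3, h4⟩ := hcon
    letI := Fintype.ofFinite (vfix z t r)
    have hsub : ∀ w ∈ insert v S, w ∈ vfix z t r := by
      intro w hw
      simp only [S, Finset.mem_insert, Finset.mem_singleton] at hw
      rcases hw with rfl | rfl | rfl | rfl | rfl
      · exact hv
      · exact one_mem _
      · exact g.t_mem_V
      · exact hu
      · exact mul_mem g.t_mem_V hu
    have hcard := g.card_V h
    rw [← SetLike.coe_sort_coe, Nat.card_coe_set_eq] at hcard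
    have hle := Set.ncard_le_ncard (s := ↑(insert v S)) (t := (vfix z t r : Set G)) (fun w hw => hsub w hw) (Set.toFinite _)
    rw [hcard, Set.ncard_coe_finset, Finset.card_insert_of_notMem (by simp [S, h1, h2, h3, h4]), hS] at hle
    omega
  refine ⟨hu, (hcm u hu u hu).2, (hcm t g.t_mem_V u hu).1, ?_, hall⟩
  rcases hall _ (R.aV u hu) with e | e | e | e
  · exact absurd (mul_inv_eq_one.mp e) (by intro e'; exact hu1 (mul_eq_left.mp e'))
  · exfalso
    apply R.at'
    have e3 : a * (a * (a * t * a⁻¹) * a⁻¹) * a⁻¹ = t := by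
      rw [show a * (a * (a * t * a⁻¹) * a⁻¹) * a⁻¹ = (a * a * a) * t * (a * a * a)⁻¹ by group, R.a3]; group
    rw [e] at e3
    exact mul_inv_eq_iff_eq_mul.mp e3
  · exact absurd (mul_left_cancel (a := a) (mul_right_cancel (b := a⁻¹) e)) hut
  · exact e

set_option maxHeartbeats 1000000 in
/-- The generators. -/
theorem exists_gens (h : Setting z Q) :
    ∃ (gg : ℕ → G) (H : Subgroup G),
      (∀ s < jT.n, gg s * gg (jT.iv s) = 1) ∧ (∀ w ∈ jT.rels, Spor.Coset.ev gg w = 1) ∧
      (∀ w ∈ jT.sub, Spor.Coset.ev gg w ∈ H) ∧ gg 0 ∉ H ∧ Nat.card H = 720 ∧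
      H ≤ Subgroup.closure {y | ∃ s < jT.n, gg s = y} ∧ ∀ N : Subgroup G, N.Normal → N ≤ H → N = ⊥ := by
  classical
  obtain ⟨t, x, σ, r, g⟩ := h.exists_good
  obtain ⟨K, c⟩ := g.exists_comp h
  obtain ⟨a₀, R₀⟩ := g.exists_rot h c
  obtain ⟨q, k, o₀, hkK, k2, kne, knz, f1, f2, f3, f4, hqzk, hqr₀⟩ := exists_qk g h c R₀
  obtain ⟨a, R, o, hqr⟩ : ∃ a, Rot z t x r a K ∧ QOK z Q x a q ∧ q * r * q * r * a = 1 := by
    rcases hqr₀ with e | e
    · exact ⟨a₀⁻¹, rot_inv R₀, ⟨o₀.mem, (Commute.inv_right o₀.qa).eq, o₀.nx⟩, by rw [e, mul_inv_cancel]⟩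
    · exact ⟨a₀, R₀, o₀, by rw [e, inv_mul_cancel]⟩
  obtain ⟨hu, hu2, htu, hau, hV⟩ := four_facts g h R
  set u := a * t * a⁻¹ with hudef
  obtain ⟨h4, hcQ⟩ := o.qt4 g h
  have hq2 : q * q = 1 := o.mem.2.1
  have hr3 := r_three g h c
  have hx2 : x * x = 1 := g.L.xX.2.1
  have hzx : z * x = x * z := (h.zq g.L.xX.1).symm
  have hVK : ∀ v ∈ vfix z t r, ∀ k' ∈ K, v * k' = k' * v := fun v hv k' hk' => g.V_cent_K h c hv hk'
  set H := Subgroup.normalizer (vfix z t r : Set G) with hH
  have hCt : Subgroup.centralizer ({t} : Set G) ≤ H := fun m hm => by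
    refine Subgroup.mem_normalizer_iff.mpr fun v => ?_
    have hfix : ∀ {w}, w ∈ vfix z t r → m * w * m⁻¹ = w := fun hw => by
      rw [g.V_central h c hm hw, mul_inv_cancel_right]
    refine ⟨fun hv => by rwa [hfix hv], fun hv => ?_⟩
    have := hfix hv
    rw [mul_left_inj, mul_right_inj] at this
    rwa [this] at hv
  have hKH : K ≤ H := c.le.trans hCt
  have hVH : vfix z t r ≤ H := g.V_le.trans hCt
  have hdec : ∀ n ∈ H, ∃ i : ℕ, ∃ v ∈ vfix z t r, ∃ k' ∈ K, n = a ^ i * v * k' := by
    intro n hn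
    obtain ⟨i, hi⟩ := R.dec n hn
    obtain ⟨v, hv, hk'⟩ := c.prod _ hi
    exact ⟨i, v⁻¹, inv_mem hv, _, hk', by group⟩
  have hqH : q ∉ H := fun hq => by
    have hm : q * t * q⁻¹ ∈ vfix z t r := (Subgroup.mem_normalizer_iff.mp hq t).mp g.t_mem_V
    rw [inv_eq_of_mul_eq_one_right hq2] at hm
    have hcV : q * t * q * t ∈ vfix z t r := mul_mem hm g.t_mem_V
    have := g.sq h.toCore (Subgroup.mem_inf.mp hcV).1
    rw [h4] at this
    exact h.ne_one this
  have hcard : Nat.card H = 720 := by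
    obtain ⟨e⟩ := g.norm_iso h c
    rw [Nat.card_congr e.toEquiv, Nat.card_prod, Nat.card_eq_fintype_card, Nat.card_eq_fintype_card]
    decide +kernel
  refine ⟨gen q t a z x r k, H, ?_, ?_, ?_, hqH, hcard, ?_, ?_⟩
  · intro s hs
    have hs' : s < 10 := hs
    interval_cases s <;> simp only [jT, jIv, gen, mul_inv_cancel, inv_mul_cancel] <;>
      first
        | exact hq2
        | exact g.t2
        | exact hu2
        | exact h.z_sq
        | exact hx2
        | exact k2
  · intro w hw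
    simp only [jT, List.mem_cons, List.not_mem_nil, or_false] at hw
    have hzK := c.zK
    have hxK := c.xK
    have hrK := c.rK
    have huu : (u : G)⁻¹ = u := inv_eq_of_mul_eq_one_right hu2
    have hti : t⁻¹ = t := inv_eq_of_mul_eq_one_right g.t2
    have hzi : z⁻¹ = z := inv_eq_of_mul_eq_one_right h.z_sq
    have hxi : x⁻¹ = x := inv_eq_of_mul_eq_one_right hx2
    have hki : k⁻¹ = k := inv_eq_of_mul_eq_one_right k2
    have cw : ∀ {b d : G}, b * d = d * b → b⁻¹ = b → d⁻¹ = d → b * (d * (b * (d * 1))) = 1 := fun hbd hb hd => by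
      have := comm_word hbd
      rw [hb, hd] at this; rwa [mul_one]
    have cw1 : ∀ {b d : G}, b * d = d * b → b⁻¹ = b → b * (d * (b * (d⁻¹ * 1))) = 1 := fun hbd hb => by
      have := comm_word hbd
      rw [hb] at this
      rwa [mul_one]
    have cw2 : ∀ {b d : G}, b * d = d * b → d⁻¹ = d → b * (d * (b⁻¹ * (d * 1))) = 1 := fun hbd hd => by
      have := comm_word hbd
      rw [hd] at this
      rwa [mul_one]
    have cw3 : ∀ {b d : G}, b * d = d * b → b * (d * (b⁻¹ * (d⁻¹ * 1))) = 1 := fun hbd => by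
      rw [mul_one]; exact comm_word hbd
    rcases hw with rfl | rfl | rfl | rfl | rfl | rfl | rfl | rfl | rfl | rfl | rfl | rfl | rfl | rfl | rfl | rfl |
      rfl | rfl | rfl | rfl | rfl | rfl | rfl | rfl | rfl | rfl | rfl | rfl | rfl | rfl | rfl | rfl | rfl | rfl |
      rfl | rfl | rfl | rfl <;> simp only [Spor.Coset.ev, gen, ← hudef]
    · simpa using h.z_sq
    · simpa using hx2
    · exact cw hzx hzi hxi
    · simpa [mul_assoc] using hr3
    · have := g.rz; rw [mul_one]; rw [← mul_assoc, ← mul_assoc, this, hx2]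
    · have := g.rx; rw [mul_one, ← mul_assoc, ← mul_assoc, this, mul_assoc z x, ← mul_assoc x, hx2, one_mul, h.z_sq]
    · simpa using k2
    · simpa [pow_succ, mul_assoc] using f1
    · simpa [pow_succ, mul_assoc] using f2
    · simpa [pow_succ, mul_assoc] using f3
    · simpa [pow_succ, mul_assoc] using f4
    · simpa using g.t2
    · simpa using hu2
    · exact cw htu hti huu
    · simpa [mul_assoc] using R.a3
    · simp
    · simp
    · rw [mul_one, ← mul_assoc, ← mul_assoc, ← hudef, hu2]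
    · rw [mul_one, ← mul_assoc, ← mul_assoc, hau, mul_assoc t u, ← mul_assoc u, hu2, one_mul, g.t2]
    · exact cw (hVK t g.t_mem_V z hzK) hti hzi
    · exact cw (hVK t g.t_mem_V x hxK) hti hxi
    · exact cw1 (hVK t g.t_mem_V r hrK) hti
    · exact cw (hVK t g.t_mem_V k hkK) hti hki
    · exact cw (hVK u hu z hzK) huu hzi
    · exact cw (hVK u hu x hxK) huu hxi
    · exact cw1 (hVK u hu r hrK) huu
    · exact cw (hVK u hu k hkK) huu hki
    · exact cw2 (R.aK z hzK) hzi
    · exact cw2 (R.aK x hxK) hxi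
    · exact cw3 (R.aK r hrK)
    · exact cw2 (R.aK k hkK) hki
    · simpa using hq2
    · exact cw (o.qz h) (inv_eq_of_mul_eq_one_right hq2) hzi
    · have := o.qx g h
      rw [mul_one, ← mul_assoc, ← mul_assoc, this, mul_assoc z x, ← mul_assoc x, hx2, one_mul, h.z_sq]
    · exact cw2 o.qa.symm (inv_eq_of_mul_eq_one_right hq2)
    · simpa [mul_assoc] using hqr
    · simpa [pow_succ, mul_assoc] using hqzk
    · have := h4
      simp only [mul_assoc] at this ⊢
      rw [mul_one, ← h.z_sq]
      conv_rhs => arg 1; rw [← this]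
      simp only [mul_assoc]
  · intro w hw
    simp only [jT, List.mem_cons, List.not_mem_nil, or_false] at hw
    rcases hw with rfl | rfl | rfl | rfl | rfl | rfl | rfl <;> simp only [Spor.Coset.ev, gen, mul_one]
    · exact hCt (Subgroup.mem_centralizer_singleton_iff.mpr rfl)
    · exact hVH hu
    · exact R.aN
    · exact hKH c.zK
    · exact hKH c.xK
    · exact hKH c.rK
    · exact hKH hkK
  · set S := Subgroup.closure {y | ∃ s < jT.n, gen q t a z x r k s = y}
    have hgS : ∀ s < 10, gen q t a z x r k s ∈ S := fun s hs => Subgroup.subset_closure ⟨s, hs, rfl⟩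
    have hzS : z ∈ S := hgS 5 (by norm_num)
    have hxS : x ∈ S := hgS 6 (by norm_num)
    have hrS : r ∈ S := hgS 7 (by norm_num)
    have hkS : k ∈ S := hgS 9 (by norm_num)
    have hKS : K ≤ S := by
      haveI : Fact (Nat.Prime 2) := ⟨Nat.prime_two⟩
      haveI : Fact (Nat.Prime 3) := ⟨Nat.prime_three⟩
      haveI : Fact (Nat.Prime 5) := ⟨by norm_num⟩
      set S' := S.subgroupOf K
      have h5 : 5 ∣ Nat.card S' := by
        have ho : orderOf (⟨⟨z * k, K.mul_mem c.zK hkK⟩, mul_mem hzS hkS⟩ : S') = 5 := by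
          rw [← Subgroup.orderOf_coe, ← Subgroup.orderOf_coe, orderOf_eq_prime_iff]
          refine ⟨f1, fun e => knz ?_⟩
          rw [eq_inv_of_mul_eq_one_right e, inv_eq_of_mul_eq_one_right h.z_sq]
        exact ho ▸ orderOf_dvd_natCard _
      have h3 : 3 ∣ Nat.card S' := by
        have ho : orderOf (⟨⟨r, c.rK⟩, hrS⟩ : S') = 3 := by
          rw [← Subgroup.orderOf_coe, ← Subgroup.orderOf_coe, orderOf_eq_prime_iff]
          refine ⟨by rw [pow_three, ← mul_assoc, hr3], fun e => z_not_comm_r g (by rw [show r = 1 from e, one_mul, mul_one])⟩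
        exact ho ▸ orderOf_dvd_natCard _
      have h22 : 4 ∣ Nat.card S' := by
        let zS : S' := ⟨⟨z, c.zK⟩, hzS⟩
        let xS : S' := ⟨⟨x, c.xK⟩, hxS⟩
        let D : Subgroup S' :=
          { carrier := {1, zS, xS, zS * xS}
            one_mem' := by simp
            mul_mem' := by
              have a1 : zS * zS = 1 := Subtype.ext (Subtype.ext h.z_sq)
              have a2 : xS * xS = 1 := Subtype.ext (Subtype.ext hx2)
              have a3 : xS * zS = zS * xS := Subtype.ext (Subtype.ext hzx.symm)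
              have a4 : ∀ y, zS * (zS * y) = y := fun y => by rw [← mul_assoc, a1, one_mul]
              have a5 : ∀ y, xS * (zS * y) = zS * (xS * y) := fun y => by rw [← mul_assoc, a3, mul_assoc]
              intro p p' hp hp'
              simp only [Set.mem_insert_iff, Set.mem_singleton_iff] at hp hp' ⊢
              rcases hp with rfl | rfl | rfl | rfl <;> rcases hp' with rfl | rfl | rfl | rfl <;>
                simp [mul_assoc, a1, a2, a3, a4, a5]
            inv_mem' := by
              intro p hp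
              simp only [Set.mem_insert_iff, Set.mem_singleton_iff] at hp ⊢
              have a1 : zS⁻¹ = zS := Subtype.ext (Subtype.ext (inv_eq_of_mul_eq_one_right h.z_sq))
              have a2 : xS⁻¹ = xS := Subtype.ext (Subtype.ext (inv_eq_of_mul_eq_one_right hx2))
              have a3 : xS * zS = zS * xS := Subtype.ext (Subtype.ext hzx.symm)
              rcases hp with rfl | rfl | rfl | rfl <;> simp [a1, a2, a3] }
        have hD : Nat.card D = 4 := by
          rw [← SetLike.coe_sort_coe, Nat.card_coe_set_eq]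
          show ({1, zS, xS, zS * xS} : Set S').ncard = 4
          have n1 : zS ≠ 1 := fun e => h.ne_one (congrArg (fun p : S' => ((p : K) : G)) e)
          have n2 : xS ≠ 1 := fun e => g.L.xX.2.2.1 (congrArg (fun p : S' => ((p : K) : G)) e)
          have n3 : zS ≠ xS := fun e => x_ne_z g (congrArg (fun p : S' => ((p : K) : G)) e).symm
          have n4 : zS * xS ≠ 1 := fun e => n3 (by
            rw [eq_inv_of_mul_eq_one_left e]
            exact Subtype.ext (Subtype.ext (inv_eq_of_mul_eq_one_right hx2)))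
          have n5 : zS ≠ zS * xS := fun e => n2 (left_eq_mul.mp e)
          have n6 : xS ≠ zS * xS := fun e => n1 (right_eq_mul.mp e)
          rw [Set.ncard_insert_of_notMem (by simp [n1.symm, n2.symm, n4.symm]) (Set.toFinite _),
            Set.ncard_insert_of_notMem (by simp [n3, n5]) (Set.toFinite _), Set.ncard_pair n6]
        exact hD ▸ D.card_subgroup_dvd_card
      have hle : 60 ∣ Nat.card S' :=
        Nat.Coprime.mul_dvd_of_dvd_of_dvd (m := 4) (n := 15) (by norm_num) h22
          (Nat.Coprime.mul_dvd_of_dvd_of_dvd (by norm_num) h3 h5)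
      have htop : S' = ⊤ := by
        refine Subgroup.eq_top_of_le_card _ ?_
        rw [g.card_K h c]
        exact Nat.le_of_dvd Nat.card_pos hle
      exact Subgroup.subgroupOf_eq_top.mp htop
    intro n hn
    obtain ⟨i, v, hv, k', hk', rfl⟩ := hdec n hn
    refine mul_mem (mul_mem (pow_mem (hgS 3 (by norm_num)) i) ?_) (hKS hk')
    rcases hV v hv with rfl | rfl | rfl | rfl
    · exact one_mem _
    · exact hgS 1 (by norm_num)
    · exact hgS 2 (by norm_num)
    · exact mul_mem (hgS 1 (by norm_num)) (hgS 2 (by norm_num))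
  · intro N hN hNH
    -- `N` meets `K` trivially
    have hNK : ∀ n ∈ N, n ∈ K → n = 1 := by
      obtain ⟨eK⟩ := g.iso_K h c
      haveI : IsSimpleGroup (alternatingGroup (Fin 5)) := alternatingGroup.isSimpleGroup (by simp)
      haveI : Nontrivial K := eK.symm.toEquiv.nontrivial_congr.mp inferInstance
      haveI : IsSimpleGroup K := IsSimpleGroup.isSimpleGroup_of_surjective eK.symm.toMonoidHom eK.symm.surjective
      haveI : (N.subgroupOf K).Normal := hN.subgroupOf K
      rcases IsSimpleGroup.eq_bot_or_eq_top_of_normal (N.subgroupOf K) inferInstance with e | e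
      · intro n hn hnK
        have : (⟨n, hnK⟩ : K) ∈ N.subgroupOf K := hn
        rw [e, Subgroup.mem_bot] at this
        exact congrArg Subtype.val this
      · exfalso
        obtain ⟨k₁, hk₁, hne⟩ := o.moves_rotK g h c R
        apply hne
        have hm : q * k₁ * q ∈ H := by
          refine hNH ?_
          have := hN.conj_mem k₁ (Subgroup.subgroupOf_eq_top.mp e hk₁) q
          rwa [inv_eq_of_mul_eq_one_right hq2] at this
        obtain ⟨i, v, hv, k', hk', heq⟩ := hdec _ hm
        have hca : Commute a (q * k₁ * q) :=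
          Commute.mul_right (Commute.mul_right o.qa.symm (R.aK k₁ hk₁)) o.qa.symm
        rw [heq] at hca
        have hav : a * v = v * a := by
          have h1 : Commute a ((a ^ i)⁻¹ * (a ^ i * v * k') * k'⁻¹) :=
            Commute.mul_right (Commute.mul_right ((Commute.refl a).pow_right i).inv_right hca)
              (Commute.inv_right (R.aK k' hk'))
          rwa [show (a ^ i)⁻¹ * (a ^ i * v * k') * k'⁻¹ = v by group] at h1
        rcases hV v hv with rfl | rfl | rfl | rfl
        · exact ⟨i, k', hk', by rw [heq, mul_one]⟩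
        · exact absurd hav R.at'
        · exfalso
          have e1 : a * u * a⁻¹ = u := by rw [hav, mul_inv_cancel_right]
          rw [hau] at e1
          exact g.tQ (mul_eq_right.mp e1 ▸ Q.one_mem)
        · exfalso
          have e1 : a * (t * u) * a⁻¹ = t * u := by rw [hav, mul_inv_cancel_right]
          rw [← conj_mul, hau, ← hudef, htu, ← mul_assoc, hu2, one_mul] at e1
          exact R.at' (by
            have hu1 : u = 1 := mul_eq_right.mp e1.symm
            rw [hudef, mul_inv_eq_one] at hu1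
            have : t = 1 := mul_eq_left.mp hu1
            rw [this, mul_one, one_mul])
    have hVN : ∀ n ∈ N, n ∈ vfix z t r → n = 1 := by
      intro n hn hnV
      by_contra hn1
      obtain ⟨i, hi⟩ := R.orb n hnV hn1
      have htN : t ∈ N := by
        have := hN.conj_mem n hn (a ^ i)⁻¹
        rw [← hi] at this
        simpa [mul_assoc] using this
      have hcH : q * t * q * t ∈ H := by
        refine mul_mem (hNH ?_) (hVH g.t_mem_V)
        have := hN.conj_mem t htN q
        rwa [inv_eq_of_mul_eq_one_right hq2] at this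
      obtain ⟨j, v, hv, k', hk', heq⟩ := hdec _ hcH
      have hcz : Commute (q * t * q * t) z := h.zq hcQ
      have hzaj : Commute (a ^ j * v) z := Commute.mul_left (Commute.pow_left R.az j) (hVK v hv z c.zK)
      have hk'z : k' * z = z * k' := by
        have h1 : Commute ((a ^ j * v)⁻¹ * (a ^ j * v * k')) z :=
          Commute.mul_left hzaj.inv_left (heq ▸ hcz)
        rwa [show (a ^ j * v)⁻¹ * (a ^ j * v * k') = k' by group] at h1
      have hk2 := K_cent_z g h c hk' hk'z
      have hw : ∀ k'' ∈ K, Commute (a ^ j * v) k'' := fun k'' hk'' =>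
        Commute.mul_left (Commute.pow_left (R.aK k'' hk'') j) (hVK v hv k'' hk'')
      apply h.ne_one
      refine K_center g h c c.zK fun k'' hk'' => ?_
      rw [← h4, heq, ← (hw k' hk').mul_mul_mul_comm, hk2, mul_one]
      exact (Commute.mul_left (hw k'' hk'') (hw k'' hk'')).eq
    refine (Subgroup.eq_bot_iff_forall _).mpr fun n hn => ?_
    have hNc : ∀ k' ∈ K, n * k' = k' * n := by
      intro k' hk'
      obtain ⟨i, v, hv, k'', hk'', rfl⟩ := hdec n (hNH hn)
      have hwc : Commute (a ^ i * v) k' := Commute.mul_left (Commute.pow_left (R.aK k' hk') i) (hVK v hv k' hk')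
      have hmem : a ^ i * v * k'' * k' * (a ^ i * v * k'')⁻¹ * k'⁻¹ ∈ K := by
        have : a ^ i * v * k'' * k' * (a ^ i * v * k'')⁻¹ = k'' * k' * k''⁻¹ := by
          have hc' : Commute (a ^ i * v) (k'' * k' * k''⁻¹) := by
            have hk3 : k'' * k' * k''⁻¹ ∈ K := K.mul_mem (K.mul_mem hk'' hk') (K.inv_mem hk'')
            exact Commute.mul_left (Commute.pow_left (R.aK _ hk3) i) (hVK v hv _ hk3)
          calc a ^ i * v * k'' * k' * (a ^ i * v * k'')⁻¹
              = a ^ i * v * (k'' * k' * k''⁻¹) * (a ^ i * v)⁻¹ := by group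
            _ = _ := by rw [hc'.eq, mul_inv_cancel_right]
        rw [this]
        exact K.mul_mem (K.mul_mem (K.mul_mem hk'' hk') (K.inv_mem hk'')) (K.inv_mem hk')
      have hmemN : a ^ i * v * k'' * k' * (a ^ i * v * k'')⁻¹ * k'⁻¹ ∈ N := by
        have h1 := hN.conj_mem _ (N.inv_mem hn) k'
        have := N.mul_mem hn h1
        simpa [mul_assoc] using this
      have e1 := hNK _ hmemN hmem
      rwa [mul_inv_eq_one, mul_inv_eq_iff_eq_mul] at e1
    obtain ⟨i, v, hv, k', hk', rfl⟩ := hdec n (hNH hn)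
    have hk1 : k' = 1 := K_center g h c hk' fun k'' hk'' => by
      have h1 := hNc k'' hk''
      have hwc : Commute (a ^ i * v) k'' := Commute.mul_left (Commute.pow_left (R.aK _ hk'') i) (hVK v hv _ hk'')
      rw [mul_assoc, ← mul_assoc k'', ← hwc.eq, mul_assoc (a ^ i * v) k''] at h1
      exact mul_left_cancel h1
    subst hk1
    rw [mul_one] at hn ⊢
    have hvt : Commute v t := (hVK' g h hv)
    have hait : Commute (a ^ i) t := by
      have hm : a ^ i * v * t * (a ^ i * v)⁻¹ * t⁻¹ ∈ vfix z t r := by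
        have e : a ^ i * v * t * (a ^ i * v)⁻¹ = a ^ i * t * (a ^ i)⁻¹ := by
          rw [mul_assoc (a ^ i) v, hvt.eq]; group
        rw [e]
        refine mul_mem ?_ (inv_mem g.t_mem_V)
        exact (Subgroup.mem_normalizer_iff.mp (pow_mem R.aN i) t).mp g.t_mem_V
      have hm' : a ^ i * v * t * (a ^ i * v)⁻¹ * t⁻¹ ∈ N := by
        have h1 := hN.conj_mem _ (N.inv_mem hn) t
        have := N.mul_mem hn h1
        simpa [mul_assoc] using this
      have e1 := hVN _ hm' hm
      rw [mul_inv_eq_one, mul_inv_eq_iff_eq_mul] at e1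
      have h1 : Commute ((a ^ i * v) * v⁻¹) t := Commute.mul_left e1 hvt.inv_left
      rwa [mul_inv_cancel_right] at h1
    have hi1 : a ^ i = 1 := by
      rcases pow_cases R.a3 i with e | e | e
      · exact e
      · exact absurd (e ▸ hait).eq R.at'
      · exfalso
        rw [e, show a * a = a⁻¹ from (inv_eq_of_mul_eq_one_right (by rw [← mul_assoc]; exact R.a3)).symm] at hait
        exact R.at' (Commute.inv_left_iff.mp hait).eq
    rw [hi1, one_mul] at hn ⊢
    exact hVN v hn hv
where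
  hVK' {z : G} {Q : Subgroup G} {t x σ r v : G} (g : Good z Q t x σ r) (h : Setting z Q)
      (hv : v ∈ vfix z t r) : v * t = t * v :=
    g.mul_comm' h.toCore (Subgroup.mem_inf.mp hv).1 (Subgroup.mem_inf.mp g.t_mem_V).1

end Cfsg.Agent.Invol.HJ.Uniq
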