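import Mathlib

/-! Computations in the alternating groups of degree five and six. -/

set_option autoImplicit false

namespace Cfsg.Agent.Invol.HJ.Uniq

abbrev S6 := Equiv.Perm (Fin 6)

set_option synthInstance.maxSize 2000 in
set_option synthInstance.maxHeartbeats 200000 in
theorem six_pick : ∀ Z : S6, (Z 5 = 5 ∧ Z * Z = 1 ∧ Z ≠ 1 ∧ Equiv.Perm.sign Z = 1) →
    ∀ X : S6, (X 5 = 5 ∧ X * X = 1 ∧ X ≠ 1 ∧ X ≠ Z ∧ Z * X = X * Z ∧ Equiv.Perm.sign X = 1) →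
    ∀ R : S6, (R 5 = 5 ∧ R * R * R = 1 ∧ R * Z = X * R ∧ R * X = Z * X * R) →
    ∀ Q : S6, (Q * Q = 1 ∧ Q * Z = Z * Q ∧ Q * X = Z * X * Q ∧ Q ≠ 1 ∧ Equiv.Perm.sign Q = 1) →
    ∃ k : S6, (k 5 = 5 ∧ k * k = 1 ∧ k ≠ 1 ∧ k ≠ Z) ∧ Equiv.Perm.sign k = 1 ∧
      (Z * k) ^ 5 = 1 ∧ (X * k) ^ 5 = 1 ∧ (R * k) ^ 3 = 1 ∧ (R * Z * k) ^ 2 = 1 ∧
      ((Q * R * (Q * R) = 1 ∧ (Q * Z * k) ^ 3 = 1) ∨
        (Q * Z * R * (Q * Z * R) = 1 ∧ (Q * Z * Z * k) ^ 3 = 1)) := by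
  decide +kernel

theorem six_stab :
    (Finset.univ.filter fun p : S6 => p 5 = 5 ∧ Equiv.Perm.sign p = 1).card = 60 := by
  decide +kernel

theorem a5_center : ∀ a : alternatingGroup (Fin 5), (∀ b, a * b = b * a) → a = 1 := by
  decide +kernel

theorem a5_cent_invol : ∀ a : alternatingGroup (Fin 5), a * a = 1 → a ≠ 1 →
    ∀ b : alternatingGroup (Fin 5), b * a = a * b → b * b = 1 := by
  decide +kernel

theorem a5_two_invol : ∀ w : alternatingGroup (Fin 5), ∃ s : alternatingGroup (Fin 5),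
    s * s = 1 ∧ ∃ s' : alternatingGroup (Fin 5), s' * s' = 1 ∧ w = s * s' := by
  decide +kernel

theorem a5_pow_nine : ∀ a : alternatingGroup (Fin 5), a ^ 9 = 1 → a * a * a = 1 := by
  decide +kernel

end Cfsg.Agent.Invol.HJ.Uniq
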