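import Cfsg.Agent.Lib.Invol.HJ.Main
import Cfsg.Agent.Lib.Invol.HJ.Three
import Cfsg.Agent.Lib.Invol.HJ.Uniq.Six

/-! The elements used for the presentation of a group of Hall-Janko type. -/

set_option autoImplicit false
set_option linter.unusedSectionVars false

namespace Cfsg.Agent.Invol.HJ.Uniq

open Cfsg

variable {G : Type*} [Group G] [Finite G] {z : G} {Q : Subgroup G} {t x σ r a q : G} {K : Subgroup G}

/-- An automorphism fixing the identity of `K` respects words. -/
theorem K_center (g : Good z Q t x σ r) (h : Setting z Q) (c : Comp z t x r K) {w : G} (hw : w ∈ K)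
    (hc : ∀ k ∈ K, w * k = k * w) : w = 1 := by
  obtain ⟨e⟩ := g.iso_K h c
  have h1 : e ⟨w, hw⟩ = 1 := a5_center _ fun b => by
    have := congrArg e (Subtype.ext (hc _ (e.symm b).2) : (⟨w, hw⟩ : K) * e.symm b = e.symm b * ⟨w, hw⟩)
    simpa using this
  exact congrArg Subtype.val (e.injective (h1.trans (map_one e).symm))

theorem K_cent_z (g : Good z Q t x σ r) (h : Setting z Q) (c : Comp z t x r K) {w : G} (hw : w ∈ K)
    (hc : w * z = z * w) : w * w = 1 := by
  obtain ⟨e⟩ := g.iso_K h c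
  have hne : e ⟨z, c.zK⟩ ≠ 1 := fun e' =>
    h.ne_one (congrArg Subtype.val (e.injective (e'.trans (map_one e).symm)))
  have hz2 : e ⟨z, c.zK⟩ * e ⟨z, c.zK⟩ = 1 := by
    rw [← map_mul, show (⟨z, c.zK⟩ : K) * ⟨z, c.zK⟩ = 1 from Subtype.ext h.z_sq, map_one]
  have := a5_cent_invol _ hz2 hne (e ⟨w, hw⟩) (by
    rw [← map_mul, ← map_mul]; exact congrArg e (Subtype.ext hc))
  rw [← map_mul, MulEquiv.map_eq_one_iff] at this
  exact congrArg Subtype.val this

theorem r_three (g : Good z Q t x σ r) (h : Setting z Q) (c : Comp z t x r K) : r * r * r = 1 := by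
  obtain ⟨e⟩ := g.iso_K h c
  have := a5_pow_nine (e ⟨r, c.rK⟩) (by
    rw [← map_pow, show (⟨r, c.rK⟩ : K) ^ 9 = 1 from Subtype.ext g.r9, map_one])
  rw [← map_mul, ← map_mul, MulEquiv.map_eq_one_iff] at this
  exact congrArg Subtype.val this

theorem x_ne_z (g : Good z Q t x σ r) : x ≠ z := g.L.xX.2.2.2

theorem z_not_comm_r (g : Good z Q t x σ r) : r * z ≠ z * r := fun e =>
  x_ne_z g (by rw [← g.rz, e, mul_inv_cancel_right])

/-- The properties of the element `q`. -/
structure QOK (z : G) (Q : Subgroup G) (x a q : G) : Prop where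
  mem : q ∈ nonCentralInvol z Q
  qa : q * a = a * q
  nx : q * x ≠ x * q

theorem exists_q (g : Good z Q t x σ r) (h : Setting z Q) (R : Rot z t x r a K) :
    ∃ q, QOK z Q x a q := by
  obtain ⟨-, p, hp, p', hp', p2, p'2, p1, p'1, hne⟩ := rot_cent_Q h R
  obtain ⟨hpQ, hpa⟩ := Subgroup.mem_inf.mp hp
  obtain ⟨hpQ', hpa'⟩ := Subgroup.mem_inf.mp hp'
  have hpz : p ≠ z := fun e => hne (by rw [e]; exact (h.zq hpQ').symm)
  have hpz' : p' ≠ z := fun e => hne (by rw [e]; exact h.zq hpQ)
  have hm : p ∈ nonCentralInvol z Q := ⟨hpQ, p2, p1, hpz⟩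
  have hm' : p' ∈ nonCentralInvol z Q := ⟨hpQ', p'2, p'1, hpz'⟩
  by_cases h1 : p * x = x * p
  · by_cases h2 : p' * x = x * p'
    · exfalso
      have hzx := h.zq g.L.xX.1
      rcases h.toCore.ten.2 x g.L.xX p hm h1.symm with e | e <;>
        rcases h.toCore.ten.2 x g.L.xX p' hm' h2.symm with e' | e' <;> subst e <;> subst e'
      · exact hne rfl
      · exact hne (by rw [← mul_assoc, hzx, mul_assoc])
      · exact hne (by rw [← mul_assoc _ z, hzx, mul_assoc])
      · exact hne rfl
    · exact ⟨p', hm', Subgroup.mem_centralizer_singleton_iff.mp hpa', h2⟩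
  · exact ⟨p, hm, Subgroup.mem_centralizer_singleton_iff.mp hpa, h1⟩

theorem QOK.qz (o : QOK z Q x a q) (h : Setting z Q) : q * z = z * q := h.zq o.mem.1

theorem QOK.qx (o : QOK z Q x a q) (g : Good z Q t x σ r) (h : Setting z Q) : q * x * q = z * x := by
  rcases h.comm q o.mem.1 x g.L.xX.1 with e | e
  · exact absurd e o.nx
  · rw [e, mul_assoc z, mul_assoc x, o.mem.2.1, mul_one]

theorem QOK.mul_z (o : QOK z Q x a q) (g : Good z Q t x σ r) (h : Setting z Q) (R : Rot z t x r a K) :
    QOK z Q x a (q * z) := by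
  refine ⟨o.qz h ▸ h.toCore.zmul_mem o.mem, ?_, fun e => o.nx ?_⟩
  · rw [mul_assoc, ← R.az, ← mul_assoc, o.qa, mul_assoc]
  · rw [mul_assoc, ← h.zq g.L.xX.1, ← mul_assoc, ← mul_assoc] at e
    exact mul_right_cancel e

/-- `(q t) ^ 4 = z`. -/
theorem QOK.qt4 (o : QOK z Q x a q) (g : Good z Q t x σ r) (h : Setting z Q) :
    q * t * q * t * (q * t * q * t) = z ∧ q * t * q * t ∈ Q := by
  obtain ⟨hqQ, hq2, hq1, hqz⟩ := o.mem
  have hp : t * q * t⁻¹ ∈ nonCentralInvol z Q := h.toCore.invol_conj g.tC o.mem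
  have htinv : t⁻¹ = t := inv_eq_of_mul_eq_one_right g.t2
  rw [htinv] at hp
  have hcQ : q * t * q * t ∈ Q := by
    have := Q.mul_mem hqQ hp.1
    simpa [mul_assoc] using this
  refine ⟨?_, hcQ⟩
  rcases h.sq _ hcQ with e | e
  swap
  · exact e
  exfalso
  have hcomm : q * (t * q * t) = t * q * t * q := by
    have e1 : (q * t * q * t)⁻¹ = q * t * q * t := inv_eq_of_mul_eq_one_right e
    rw [mul_inv_rev, mul_inv_rev, mul_inv_rev, htinv, inv_eq_of_mul_eq_one_right hq2] at e1
    simpa [mul_assoc] using e1.symm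
  obtain ⟨M⟩ := h.toCore.model
  obtain ⟨j, hj⟩ := M.cover q o.mem
  set tC : Subgroup.centralizer ({z} : Set G) := ⟨t, g.tC⟩
  have hfixj : M.pt tC j = j := by
    have hspec := M.pt_spec tC j
    change t * M.a j * t⁻¹ = _ ∨ t * M.a j * t⁻¹ = _ at hspec
    rw [htinv] at hspec
    by_contra hne
    apply M.anti j (M.pt tC j) (Ne.symm hne)
    have hzc : ∀ w ∈ Q, Commute z w := fun w hw => (h.zq hw).symm
    have hzt : Commute z t := (h.cz g.tC).symm
    have hja : Commute z (M.a j) := hzc _ (M.mem j).1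
    have hjb : Commute z (M.a (M.pt tC j)) := hzc _ (M.mem _).1
    have hzz := h.z_sq
    have key : Commute (M.a j) (t * M.a j * t) := by
      rcases hj with e' | e'
      · rw [← e']; exact hcomm
      · have h1 : M.a j = z * q := by rw [e', ← mul_assoc, hzz, one_mul]
        have hq' : Commute z q := hzc _ hqQ
        have hp' : Commute z (t * q * t) := hzc _ hp.1
        rw [h1, show t * (z * q) * t = z * (t * q * t) by
          rw [← mul_assoc t, ← hzt.eq]; simp only [mul_assoc]]
        exact Commute.mul_left (Commute.mul_right (Commute.refl z) hp')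
          (Commute.mul_right hq'.symm hcomm)
    rcases hspec with s | s
    · rw [s] at key; exact key.eq
    · rw [s] at key
      have h2 : M.a (M.pt tC j) = z * (z * M.a (M.pt tC j)) := by rw [← mul_assoc, hzz, one_mul]
      rw [h2]
      exact (Commute.mul_right hja.symm key).eq
  have hi : ∃ i, x = M.a i ∨ x = z * M.a i := M.cover x g.L.xX
  obtain ⟨i, hi⟩ := hi
  have hfixi : M.pt tC i = i := h.toCore.pt_fix M hi g.L.tx
  obtain ⟨hne1, hsq⟩ := M.ptA_invol (y := tC) g.t2 g.tQ
  obtain ⟨i0, j0, l0, -, huniq, -⟩ := a5_invol_shape _ hne1 hsq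
  have hij : i = j := (huniq i hfixi).trans (huniq j hfixj).symm
  subst hij
  have hza : Commute z (M.a i) := (h.zq (M.mem i).1).symm
  apply o.nx
  rcases hj with e1 | e1 <;> rcases hi with e2 | e2 <;> rw [e1, e2]
  · exact ((Commute.mul_right hza.symm (Commute.refl _))).eq
  · exact ((Commute.mul_left hza (Commute.refl _))).eq

/-- `q` does not normalize `K`. -/
theorem QOK.moves_K (o : QOK z Q x a q) (g : Good z Q t x σ r) (h : Setting z Q) (c : Comp z t x r K) :
    ∃ k ∈ K, q * k * q ∉ K := by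
  by_contra hall
  push Not at hall
  obtain ⟨h4, -⟩ := o.qt4 g h
  have hq2 := o.mem.2.1
  have htk : ∀ k ∈ K, t * k = k * t := fun k hk =>
    (Subgroup.mem_centralizer_singleton_iff.mp (c.le hk)).symm
  have hcK : ∀ k ∈ K, (q * t * q * t) * k = k * (q * t * q * t) := fun k hk => by
    calc q * t * q * t * k = q * t * q * (t * k) := by simp only [mul_assoc]
      _ = q * t * q * (k * t) := by rw [htk k hk]
      _ = q * t * (q * k * q) * (q * t) := by
        rw [show q * t * (q * k * q) * (q * t) = q * t * q * k * (q * q) * t by simp only [mul_assoc],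
          hq2, mul_one, mul_assoc (q * t * q) k t]
      _ = q * (q * k * q) * t * (q * t) := by
        rw [mul_assoc q t, htk _ (hall k hk)]; simp only [mul_assoc]
      _ = (q * q) * k * (q * t * q * t) := by simp only [mul_assoc]
      _ = k * (q * t * q * t) := by rw [hq2, one_mul]
  apply z_not_comm_r g
  have := hcK r c.rK
  rw [← h4]
  exact ((Commute.mul_left this this).symm).eq

end Cfsg.Agent.Invol.HJ.Uniq
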