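import Cfsg.Agent.Lib.Invol.HJ.Uniq.Local

/-! The centralizer of the rotation modulo the rotation, and the choice of the generators. -/

set_option autoImplicit false
set_option linter.unusedSectionVars false
set_option linter.style.haveILetI false

namespace Cfsg.Agent.Invol.HJ.Uniq

open Cfsg

variable {G : Type*} [Group G] [Finite G] {z : G} {Q : Subgroup G} {t x σ r a q : G} {K : Subgroup G}

theorem pow_cases (ha : a * a * a = 1) (i : ℕ) : a ^ i = 1 ∨ a ^ i = a ∨ a ^ i = a * a := by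
  have e : a ^ i = a ^ (i % 3) := by
    conv_lhs => rw [← Nat.div_add_mod i 3, pow_add, pow_mul, pow_three, ← mul_assoc, ha, one_pow, one_mul]
  have : i % 3 = 0 ∨ i % 3 = 1 ∨ i % 3 = 2 := by omega
  rcases this with h | h | h <;> rw [e, h]
  · exact Or.inl (pow_zero a)
  · exact Or.inr (Or.inl (pow_one a))
  · exact Or.inr (Or.inr (pow_two a))

/-- Powers of the rotation inside `K` are trivial. -/
theorem pow_K (g : Good z Q t x σ r) (h : Setting z Q) (c : Comp z t x r K) (R : Rot z t x r a K) {i : ℕ}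
    (hi : a ^ i ∈ K) : a ^ i = 1 :=
  K_center g h c hi fun k hk => ((Commute.pow_left (R.aK k hk) i)).eq

theorem pow_two_one (ha : a * a * a = 1) {i : ℕ} (hi : a ^ i * a ^ i = 1) : a ^ i = 1 := by
  have h3 : (a ^ i) ^ 3 = 1 := by
    rw [← pow_mul, mul_comm, pow_mul, pow_three, ← mul_assoc, ha, one_pow]
  rwa [pow_three, hi, mul_one] at h3

/-- The rotation may be replaced by its inverse. -/
theorem rot_inv (R : Rot z t x r a K) : Rot z t x r a⁻¹ K := by
  have hinv : a⁻¹ = a * a := inv_eq_of_mul_eq_one_right (by rw [← mul_assoc]; exact R.a3)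
  have hpow : ∀ i : ℕ, a⁻¹ ^ (2 * i) = a ^ i := fun i => by
    rw [pow_mul, pow_two, hinv, show a * a * (a * a) = a * (a * a * a) by simp only [mul_assoc], R.a3, mul_one]
  refine ⟨by rw [← mul_inv_rev, ← mul_inv_rev, ← mul_assoc, R.a3, inv_one],
    fun e => R.at' (Commute.inv_left_iff.mp e).eq, (Commute.inv_left R.az).eq, (Commute.inv_left R.ax).eq,
    fun v hv => ?_, fun k hk => (Commute.inv_left (R.aK k hk)).eq, fun v hv hv1 => ?_, fun n hn => ?_,
    inv_mem R.aN⟩
  · have := R.aV _ (R.aV _ hv)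
    rw [hinv]
    simpa [mul_assoc] using this
  · obtain ⟨i, hi⟩ := R.orb v hv hv1
    exact ⟨2 * i, by rw [hpow]; exact hi⟩
  · obtain ⟨i, hi⟩ := R.dec n hn
    exact ⟨2 * i, by rw [hpow]; exact hi⟩

/-- The subgroup generated by the rotation and `K`. -/
def rotK (R : Rot z t x r a K) : Subgroup G where
  carrier := {y | ∃ i : ℕ, ∃ k ∈ K, y = a ^ i * k}
  one_mem' := ⟨0, 1, K.one_mem, by simp⟩
  mul_mem' := by
    rintro _ _ ⟨i, k, hk, rfl⟩ ⟨j, k', hk', rfl⟩
    refine ⟨i + j, k * k', K.mul_mem hk hk', ?_⟩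
    have hc : Commute (a ^ j) k := Commute.pow_left (R.aK k hk) j
    rw [pow_add, mul_assoc (a ^ i) k, ← mul_assoc k, ← hc.eq]
    simp only [mul_assoc]
  inv_mem' := by
    rintro _ ⟨i, k, hk, rfl⟩
    refine ⟨2 * i, k⁻¹, K.inv_mem hk, inv_eq_of_mul_eq_one_right ?_⟩
    have hc : Commute (a ^ (2 * i)) k := Commute.pow_left (R.aK k hk) _
    rw [mul_assoc, ← mul_assoc k, ← hc.eq, mul_assoc, mul_inv_cancel, mul_one, ← pow_add,
      show i + 2 * i = 3 * i by ring, pow_mul, pow_three, ← mul_assoc, R.a3, one_pow]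

theorem card_rotK (g : Good z Q t x σ r) (h : Setting z Q) (c : Comp z t x r K) (R : Rot z t x r a K) :
    Nat.card (rotK R) = 180 := by
  have ha1 : a ≠ 1 := fun e => R.at' (by rw [e, one_mul, mul_one])
  let f : Fin 3 × K → rotK R := fun p => ⟨a ^ (p.1 : ℕ) * p.2, _, _, p.2.2, rfl⟩
  have hf : Function.Bijective f := by
    constructor
    · rintro ⟨i, k⟩ ⟨j, k'⟩ e
      have e' : a ^ (i : ℕ) * k = a ^ (j : ℕ) * k' := congrArg Subtype.val e
      have hm : a ^ ((i : ℕ) + 2 * (j : ℕ)) = (k' : G) * (k : G)⁻¹ := by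
        have hj : a ^ (2 * (j : ℕ)) * a ^ (j : ℕ) = 1 := by
          rw [← pow_add, show 2 * (j : ℕ) + j = 3 * j by ring, pow_mul, pow_three, ← mul_assoc, R.a3, one_pow]
        rw [add_comm, pow_add, eq_mul_inv_iff_mul_eq, mul_assoc, e', ← mul_assoc, hj, one_mul]
      have h1 := pow_K g h c R (hm ▸ K.mul_mem k'.2 (K.inv_mem k.2))
      have hk : k = k' := by
        rw [h1, eq_comm, mul_inv_eq_one] at hm
        exact Subtype.ext hm.symm
      subst hk
      have e2 : a ^ (i : ℕ) = a ^ (j : ℕ) := mul_right_cancel e'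
      have ho : orderOf a = 3 := R.order
      have := (pow_inj_mod (x := a)).mp e2
      rw [ho, Nat.mod_eq_of_lt i.isLt, Nat.mod_eq_of_lt j.isLt] at this
      exact Prod.ext (Fin.ext this) rfl
    · rintro ⟨_, i, k, hk, rfl⟩
      refine ⟨(⟨i % 3, Nat.mod_lt _ (by norm_num)⟩, ⟨k, hk⟩), Subtype.ext ?_⟩
      show a ^ (i % 3) * k = a ^ i * k
      rw [← R.order, pow_mod_orderOf]
  rw [← Nat.card_eq_of_bijective f hf, Nat.card_prod, Nat.card_fin, g.card_K h c]

theorem rotK_K (g : Good z Q t x σ r) (h : Setting z Q) (c : Comp z t x r K) (R : Rot z t x r a K)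
    {y : G} (hy : y ∈ rotK R) (hy2 : y * y = 1) : y ∈ K := by
  obtain ⟨i, k, hk, rfl⟩ := hy
  have hc : Commute (a ^ i) k := Commute.pow_left (R.aK k hk) i
  have h2 : a ^ (i + i) = (k * k)⁻¹ := by
    rw [pow_add]
    refine eq_inv_of_mul_eq_one_left ?_
    rw [hc.mul_mul_mul_comm, hy2]
  have h3 := pow_K g h c R (h2 ▸ K.inv_mem (K.mul_mem hk hk))
  rw [pow_two_one R.a3 (by rw [← pow_add]; exact h3), one_mul]
  exact hk

/-- `q` moves `K` out of the subgroup generated by the rotation and `K`. -/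
theorem QOK.moves_rotK (o : QOK z Q x a q) (g : Good z Q t x σ r) (h : Setting z Q) (c : Comp z t x r K)
    (R : Rot z t x r a K) : ∃ k ∈ K, q * k * q ∉ rotK R := by
  by_contra hall
  push Not at hall
  obtain ⟨k, hk, hne⟩ := o.moves_K g h c
  obtain ⟨e⟩ := g.iso_K h c
  obtain ⟨s, hs, s', hs', hw⟩ := a5_two_invol (e ⟨k, hk⟩)
  have hinv : ∀ b : alternatingGroup (Fin 5), b * b = 1 → q * (e.symm b : G) * q ∈ K := fun b hb => by
    refine rotK_K g h c R (hall _ (e.symm b).2) ?_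
    have e2 : (e.symm b : G) * (e.symm b : G) = 1 := by
      rw [← Subgroup.coe_mul, ← map_mul, hb, map_one, Subgroup.coe_one]
    calc q * (e.symm b : G) * q * (q * (e.symm b : G) * q)
        = q * (e.symm b : G) * (q * q) * (e.symm b : G) * q := by simp only [mul_assoc]
      _ = 1 := by rw [o.mem.2.1, mul_one, mul_assoc q _ (e.symm b : G), e2, mul_one, o.mem.2.1]
  apply hne
  have hk' : k = (e.symm s : G) * (e.symm s' : G) := by
    rw [← Subgroup.coe_mul, ← map_mul, ← hw, MulEquiv.symm_apply_apply]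
  have : q * k * q = q * (e.symm s : G) * q * (q * (e.symm s' : G) * q) := by
    rw [hk', show q * (e.symm s : G) * q * (q * (e.symm s' : G) * q)
      = q * (e.symm s : G) * (q * q) * (e.symm s' : G) * q by simp only [mul_assoc], o.mem.2.1]
    simp only [mul_assoc, mul_one, one_mul]
  rw [this]
  exact K.mul_mem (hinv s hs) (hinv s' hs')

set_option maxHeartbeats 1000000 in
/-- The map onto the alternating group of degree six. -/
theorem exists_six (g : Good z Q t x σ r) (h : Setting z Q) (c : Comp z t x r K) (R : Rot z t x r a K)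
    (o : QOK z Q x a q) :
    ∃ ψ : Subgroup.centralizer ({a} : Set G) →* S6,
      (∀ y : Subgroup.centralizer ({a} : Set G), ψ y = 1 ↔ ∃ i : ℕ, (y : G) = a ^ i) ∧ (∀ y, Equiv.Perm.sign (ψ y) = 1) ∧
      (∀ p : S6, p 5 = 5 → Equiv.Perm.sign p = 1 →
        ∃ y : Subgroup.centralizer ({a} : Set G), (y : G) ∈ K ∧ ψ y = p) ∧
      ∀ y : Subgroup.centralizer ({a} : Set G), (y : G) ∈ K → ψ y 5 = 5 := by
  classical
  set C := Subgroup.centralizer ({a} : Set G) with hC
  have hmemC : ∀ {y : G}, y ∈ C ↔ y * a = a * y := Subgroup.mem_centralizer_singleton_iff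
  have hKC : ∀ k ∈ K, k ∈ C := fun k hk => hmemC.mpr (R.aK k hk).symm
  have haC : a ∈ C := hmemC.mpr rfl
  have hLC : rotK R ≤ C := by
    rintro _ ⟨i, k, hk, rfl⟩
    exact mul_mem (pow_mem haC i) (hKC k hk)
  set L := (rotK R).subgroupOf C with hL
  have hcardC : Nat.card C = 1080 := (rot_cent g h c R).1
  have hLcard : Nat.card L = 180 := by
    rw [Nat.card_congr (Subgroup.subgroupOfEquivOfLe hLC).toEquiv, card_rotK g h c R]
  have hidx : Nat.card (C ⧸ L) = 6 := by
    have := L.card_mul_index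
    rw [hLcard, hcardC, Subgroup.index] at this
    omega
  obtain ⟨e0⟩ : Nonempty (C ⧸ L ≃ Fin 6) := by
    exact ⟨(Finite.equivFin _).trans (finCongr hidx)⟩
  let e : C ⧸ L ≃ Fin 6 := e0.trans (Equiv.swap (e0 ((1 : C) : C ⧸ L)) 5)
  have he : e ((1 : C) : C ⧸ L) = 5 := by simp [e]
  let ψ : C →* S6 := e.permCongrHom.toMonoidHom.comp (MulAction.toPermHom C (C ⧸ L))
  have hψ : ∀ (y : C) (p : C ⧸ L), ψ y (e p) = e (y • p) := fun y p => by
    simp [ψ, Equiv.permCongrHom]
  have hψ5 : ∀ y : C, ψ y 5 = 5 ↔ (y : G) ∈ rotK R := fun y => by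
    have h5 := hψ y ((1 : C) : C ⧸ L)
    rw [he] at h5
    rw [h5, ← he, e.injective.eq_iff, MulAction.Quotient.smul_coe, smul_eq_mul, mul_one, QuotientGroup.eq,
      mul_one, inv_mem_iff]
    rfl
  have hker : ∀ y, ψ y = 1 ↔ ∃ i : ℕ, (y : G) = a ^ i := by
    intro y
    constructor
    · intro hy
      have hyL : (y : G) ∈ rotK R := (hψ5 y).mp (by rw [hy]; rfl)
      obtain ⟨i, k, hk, hyk⟩ := hyL
      refine ⟨i, ?_⟩
      suffices k = 1 by rw [hyk, this, mul_one]
      -- the kernel meets `K` trivially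
      have hKN : ∀ w : C, (w : G) ∈ K → ψ w = 1 → (w : G) = 1 := by
        obtain ⟨eK⟩ := g.iso_K h c
        haveI : IsSimpleGroup (alternatingGroup (Fin 5)) := alternatingGroup.isSimpleGroup (by simp)
        haveI : Nontrivial K := eK.symm.toEquiv.nontrivial_congr.mp inferInstance
        haveI : IsSimpleGroup K := IsSimpleGroup.isSimpleGroup_of_surjective eK.symm.toMonoidHom eK.symm.surjective
        let ι : K →* C := MonoidHom.mk' (fun k => ⟨k, hKC k k.2⟩) fun _ _ => rfl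
        rcases IsSimpleGroup.eq_bot_or_eq_top_of_normal (ψ.comp ι).ker inferInstance with e' | e'
        · intro w hw hw1
          have : (⟨w, hw⟩ : K) ∈ (ψ.comp ι).ker := hw1
          rw [e', Subgroup.mem_bot] at this
          exact congrArg Subtype.val this
        · exfalso
          obtain ⟨k0, hk0, hne⟩ := o.moves_rotK g h c R
          apply hne
          have hq : q ∈ C := hmemC.mpr o.qa
          have h0 : ψ (ι ⟨k0, hk0⟩) = 1 := (e' ▸ Subgroup.mem_top (⟨k0, hk0⟩ : K) : (⟨k0, hk0⟩ : K) ∈ (ψ.comp ι).ker)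
          have h1 : ψ (⟨q, hq⟩ * ι ⟨k0, hk0⟩ * ⟨q, hq⟩) = 1 := by
            rw [map_mul, map_mul, h0, mul_one, ← map_mul,
              show (⟨q, hq⟩ : C) * ⟨q, hq⟩ = 1 from Subtype.ext o.mem.2.1, map_one]
          exact (hψ5 _).mp (by rw [h1]; rfl)
      have hkc : ψ ⟨k, hKC k hk⟩ = ψ ⟨a ^ i, pow_mem haC i⟩⁻¹ := by
        have : y = ⟨a ^ i, pow_mem haC i⟩ * ⟨k, hKC k hk⟩ := Subtype.ext hyk
        rw [this, map_mul] at hy
        rw [map_inv]
        exact eq_inv_of_mul_eq_one_right hy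
      refine K_center g h c hk fun k' hk' => ?_
      have hcomm : ψ (⟨k, hKC k hk⟩ * ⟨k', hKC k' hk'⟩ * ⟨k, hKC k hk⟩⁻¹ * ⟨k', hKC k' hk'⟩⁻¹) = 1 := by
        rw [map_mul, map_mul, map_mul, map_inv, map_inv, hkc, ← map_inv, ← map_inv, ← map_mul, ← map_mul, ← map_mul]
        rw [show (⟨a ^ i, pow_mem haC i⟩ : C)⁻¹ * ⟨k', hKC k' hk'⟩ * (⟨a ^ i, pow_mem haC i⟩ : C)⁻¹⁻¹ *
          ⟨k', hKC k' hk'⟩⁻¹ = 1 from Subtype.ext (by
            show (a ^ i)⁻¹ * k' * ((a ^ i)⁻¹)⁻¹ * k'⁻¹ = 1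
            rw [inv_inv, mul_assoc _ k' (a ^ i), ← (Commute.pow_left (R.aK k' hk') i).eq]
            group), map_one]
      have := hKN _ (K.mul_mem (K.mul_mem (K.mul_mem hk hk') (K.inv_mem hk)) (K.inv_mem hk')) hcomm
      change k * k' * k⁻¹ * k'⁻¹ = 1 at this
      rwa [mul_inv_eq_one, mul_inv_eq_iff_eq_mul] at this
    · rintro ⟨i, hi⟩
      ext b
      obtain ⟨p, rfl⟩ := e.surjective b
      rw [hψ]
      induction p using QuotientGroup.induction_on with
      | _ w =>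
        simp only [Equiv.Perm.one_apply]
        congr 2
        rw [MulAction.Quotient.smul_coe, smul_eq_mul, QuotientGroup.eq]
        show (((y * w)⁻¹ * w : C) : G) ∈ rotK R
        refine ⟨2 * i, 1, K.one_mem, ?_⟩
        have hc : Commute (a ^ i) (w : G) := Commute.pow_left (hmemC.mp w.2).symm i
        rw [Subgroup.coe_mul, Subgroup.coe_inv, Subgroup.coe_mul, hi, mul_one, hc.eq, mul_inv_rev, mul_assoc,
          inv_mul_cancel, mul_one]
        refine inv_eq_of_mul_eq_one_right ?_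
        rw [← pow_add, show i + 2 * i = 3 * i by ring, pow_mul, pow_three, ← mul_assoc, R.a3, one_pow]
  have hcardker : Nat.card ψ.ker = 3 := by
    have : ψ.ker = (Subgroup.zpowers a).subgroupOf C := by
      ext y
      rw [MonoidHom.mem_ker, hker]
      constructor
      · rintro ⟨i, hi⟩; exact ⟨i, by simp [hi]⟩
      · intro hy
        have hy' : (y : G) ∈ Submonoid.powers a := mem_powers_iff_mem_zpowers.mpr hy
        obtain ⟨i, hi⟩ := hy'
        exact ⟨i, hi.symm⟩
    rw [this, Nat.card_congr (Subgroup.subgroupOfEquivOfLe (Subgroup.zpowers_le.mpr haC)).toEquiv,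
      Nat.card_zpowers, R.order]
  have hrange : ψ.range = alternatingGroup (Fin 6) := by
    refine Equiv.Perm.eq_alternatingGroup_of_index_eq_two ?_
    have h1 := Subgroup.card_mul_index ψ.ker
    rw [hcardker, Subgroup.index_ker, hcardC] at h1
    have h2 := Subgroup.card_mul_index ψ.range
    rw [Nat.card_perm, Nat.card_fin] at h2
    have h3 : Nat.card ψ.range = 360 := by omega
    rw [h3] at h2
    simp [Nat.factorial] at h2
    omega
  have hsign : ∀ y, Equiv.Perm.sign (ψ y) = 1 := fun y =>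
    Equiv.Perm.mem_alternatingGroup.mp (hrange ▸ ⟨y, rfl⟩)
  have hfix : ∀ y : C, (y : G) ∈ K → ψ y 5 = 5 := fun y hy => (hψ5 y).mpr ⟨0, y, hy, by simp⟩
  refine ⟨ψ, hker, hsign, fun p hp hps => ?_, hfix⟩
  let f : K → {p : S6 // p ∈ Finset.univ.filter fun p : S6 => p 5 = 5 ∧ Equiv.Perm.sign p = 1} := fun k =>
    ⟨ψ ⟨k, hKC k k.2⟩, Finset.mem_filter.mpr ⟨Finset.mem_univ _, hfix _ k.2, hsign _⟩⟩
  have hfi : Function.Injective f := by
    intro k k' hkk
    have h0 : ψ ⟨k, hKC k k.2⟩ = ψ ⟨k', hKC k' k'.2⟩ := congrArg Subtype.val hkk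
    have h1 : ψ (⟨k, hKC k k.2⟩ * ⟨k', hKC k' k'.2⟩⁻¹) = 1 := by rw [map_mul, map_inv, h0, mul_inv_cancel]
    obtain ⟨i, hi⟩ := (hker _).mp h1
    change (k : G) * (k' : G)⁻¹ = a ^ i at hi
    have := pow_K g h c R (hi ▸ K.mul_mem k.2 (K.inv_mem k'.2))
    rw [this, mul_inv_eq_one] at hi
    exact Subtype.ext hi
  have hfb : Function.Bijective f := by
    letI := Fintype.ofFinite K
    refine (Fintype.bijective_iff_injective_and_card f).mpr ⟨hfi, ?_⟩
    rw [← Nat.card_eq_fintype_card, g.card_K h c, Fintype.card_coe, six_stab]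
  obtain ⟨k, hk⟩ := hfb.2 ⟨p, Finset.mem_filter.mpr ⟨Finset.mem_univ _, hp, hps⟩⟩
  exact ⟨⟨k, hKC k k.2⟩, k.2, congrArg Subtype.val hk⟩

end Cfsg.Agent.Invol.HJ.Uniq
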