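import Cfsg.Agent.Lib.Invol.HJ.Uniq.Iso
import Cfsg.Agent.S0215

/-! The simple group hypothesis puts a conjugate of the central involution in the extraspecial group. -/

set_option autoImplicit false
set_option linter.unusedSectionVars false

namespace Cfsg.Agent.Invol.HJ.Uniq

open Cfsg
open scoped commutatorElement

variable {G : Type*} [Group G]

theorem core_of_quot [Finite G] (z : G) (hz : orderOf z = 2) (Q : Subgroup (Subgroup.centralizer ({z} : Set G))) [Q.Normal]
    (hQ : IsExtraspecial 2 Q) (hcard : Nat.card Q = 2 ^ 5)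
    (hCQ : Subgroup.centralizer (Q : Set (Subgroup.centralizer ({z} : Set G))) ≤ Q)
    (e : (Subgroup.centralizer ({z} : Set G)) ⧸ Q ≃* alternatingGroup (Fin 5)) :
    Core z (Q.map (Subgroup.centralizer ({z} : Set G)).subtype) := by
  classical
  haveI : Fact (Nat.Prime 2) := ⟨Nat.prime_two⟩
  obtain ⟨⟨hQp, hfr, hder⟩, hc2⟩ := hQ
  have hmem : ∀ {x : G} (hx : x ∈ (Subgroup.centralizer ({z} : Set G))), x ∈ Q.map (Subgroup.centralizer ({z} : Set G)).subtype ↔ (⟨x, hx⟩ : (Subgroup.centralizer ({z} : Set G))) ∈ Q := fun {x} hx =>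
    ⟨fun ⟨y, hy, he⟩ => (show y = ⟨x, hx⟩ from Subtype.ext he) ▸ hy, fun h => ⟨_, h, rfl⟩⟩
  have hzC : z ∈ (Subgroup.centralizer ({z} : Set G)) := Subgroup.mem_centralizer_singleton_iff.mpr rfl
  have hCz : ∀ c ∈ (Subgroup.centralizer ({z} : Set G)), c * z = z * c := fun c hc => Subgroup.mem_centralizer_singleton_iff.mp hc
  have hzQ' : (⟨z, hzC⟩ : (Subgroup.centralizer ({z} : Set G))) ∈ Q := hCQ (Subgroup.mem_centralizer_iff.mpr fun y _ => Subtype.ext (hCz _ y.2))
  let zq : Q := ⟨⟨z, hzC⟩, hzQ'⟩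
  have hzq : zq ∈ Subgroup.center Q := Subgroup.mem_center_iff.mpr fun b => Subtype.ext (Subtype.ext (hCz _ (b : (Subgroup.centralizer ({z} : Set G))).2))
  have hzq1 : zq ≠ 1 := fun h => by
    have h' : z = 1 := congrArg (fun u : Q => ((u : (Subgroup.centralizer ({z} : Set G))) : G)) h
    rw [h', orderOf_one] at hz
    omega
  have hcv : ∀ a : Q, a ∈ Subgroup.center Q → a = 1 ∨ a = zq := by
    intro a ha
    by_contra hcon
    push Not at hcon
    haveI := Fintype.ofFinite (Subgroup.center Q)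
    have h3 : ({1, ⟨_, hzq⟩, ⟨_, ha⟩} : Finset (Subgroup.center Q)).card ≤ 2 :=
      (Finset.card_le_univ _).trans (by rw [← Nat.card_eq_fintype_card, hc2])
    rw [Finset.card_insert_of_notMem (by simp only [Finset.mem_insert, Finset.mem_singleton, not_or]; exact ⟨fun e => hzq1 (congrArg Subtype.val e).symm, fun e => hcon.1 (congrArg Subtype.val e).symm⟩),
      Finset.card_pair (fun e => hcon.2 (congrArg Subtype.val e).symm)] at h3
    omega
  have hcv' : ∀ a : Q, a ∈ Subgroup.center Q → ((a : (Subgroup.centralizer ({z} : Set G))) : G) = 1 ∨ ((a : (Subgroup.centralizer ({z} : Set G))) : G) = z := fun a ha =>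
    by
    rcases hcv a ha with rfl | rfl
    · exact Or.inl rfl
    · exact Or.inr rfl
  refine ⟨hz, ⟨_, hzQ', rfl⟩, Subgroup.map_subtype_le _, ?_, ?_, ?_, ?_, ?_, ?_, ?_⟩
  · rintro c hc _ ⟨q, hq, rfl⟩
    exact ⟨⟨c, hc⟩ * q * ⟨c, hc⟩⁻¹, ‹Q.Normal›.conj_mem q hq _, rfl⟩
  · rw [← Nat.card_congr (Q.equivMapOfInjective _ Subtype.coe_injective).toEquiv, hcard]; norm_num
  · rintro _ ⟨q, hq, rfl⟩
    have h : (⟨q, hq⟩ : Q) * ⟨q, hq⟩ ∈ frattini Q := by
      rw [← pow_two]; exact Cfsg.Agent.Grp.pGroup_pow_mem_frattini hQp _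
    rw [hfr] at h
    exact hcv' _ h
  · rintro _ ⟨a, ha, rfl⟩ _ ⟨b, hb, rfl⟩
    have h : ⁅(⟨a, ha⟩ : Q), (⟨b, hb⟩ : Q)⁆ ∈ Subgroup.center Q := by
      rw [← hder, commutator_def]; exact Subgroup.commutator_mem_commutator (Subgroup.mem_top _) (Subgroup.mem_top _)
    rcases hcv' _ h with h' | h'
    · left
      simp only [commutatorElement_def, Subgroup.coe_mul, Subgroup.coe_inv, Subgroup.coe_subtype] at h' ⊢
      rwa [mul_inv_eq_one, mul_inv_eq_iff_eq_mul] at h'
    · right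
      simp only [commutatorElement_def, Subgroup.coe_mul, Subgroup.coe_inv, Subgroup.coe_subtype] at h' ⊢
      rw [mul_inv_eq_iff_eq_mul, mul_inv_eq_iff_eq_mul, mul_assoc] at h'
      exact h'
  · rintro _ ⟨a, ha, rfl⟩ h
    refine hcv' (⟨a, ha⟩ : Q) (Subgroup.mem_center_iff.mpr fun b => ?_)
    exact Subtype.ext (Subtype.ext (h _ ⟨_, b.2, rfl⟩).symm)
  · intro c hc h
    exact (hmem hc).mpr (hCQ (Subgroup.mem_centralizer_iff.mpr fun y hy => Subtype.ext (h _ ⟨y, hy, rfl⟩).symm))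
  · let f := e.toMonoidHom.comp (QuotientGroup.mk' Q)
    refine ⟨f, e.surjective.comp (QuotientGroup.mk'_surjective Q), fun c => ?_⟩
    show e (QuotientGroup.mk c) = 1 ↔ _
    rw [MulEquiv.map_eq_one_iff, QuotientGroup.eq_one_iff]
    exact (hmem c.2).symm


/-- Glauberman's theorem gives a second conjugate in the centralizer. -/
theorem exists_conj_in_C [Finite G] [IsSimpleGroup G] {z : G} {Q : Subgroup G} (h : Core z Q) :
    ∃ g : G, g * z * g⁻¹ ∈ Subgroup.centralizer ({z} : Set G) ∧ g * z * g⁻¹ ≠ z := by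
  by_contra hcon
  push Not at hcon
  haveI : Fact (Nat.Prime 2) := ⟨Nat.prime_two⟩
  have hQ' : IsPGroup 2 (Q.subgroupOf (Subgroup.centralizer ({z} : Set G))) :=
    h.card_two_pow.comap_of_injective _ Subtype.coe_injective
  obtain ⟨T, hT⟩ := hQ'.exists_le_sylow
  obtain ⟨P, hP⟩ := (T.2.map (Subgroup.centralizer ({z} : Set G)).subtype).exists_le_sylow
  have hQP : Q ≤ (P : Subgroup G) := fun q hq => hP ⟨⟨q, h.le_C hq⟩, hT hq, rfl⟩
  have hzP : z ∈ (P : Subgroup G) := hQP h.mem_z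
  have hzcen : ∀ p ∈ (P : Subgroup G), p * z = z * p := by
    haveI : Nontrivial (P : Subgroup G) :=
      ⟨⟨z, hzP⟩, 1, fun e => h.ne_one (congrArg Subtype.val e)⟩
    haveI := P.2.center_nontrivial
    obtain ⟨c, hc⟩ := exists_ne (1 : Subgroup.center (P : Subgroup G))
    have hcom : ∀ p, ∀ hp : p ∈ (P : Subgroup G), p * ((c : (P : Subgroup G)) : G) = ((c : (P : Subgroup G)) : G) * p :=
      fun p hp => congrArg Subtype.val (Subgroup.mem_center_iff.mp c.2 ⟨p, hp⟩)
    have hcC : ((c : (P : Subgroup G)) : G) ∈ Subgroup.centralizer ({z} : Set G) :=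
      Subgroup.mem_centralizer_singleton_iff.mpr (hcom z hzP).symm
    have hcQ := h.cent _ hcC fun q hq => (hcom q (hQP hq)).symm
    rcases h.cen _ hcQ fun q hq => (hcom q (hQP hq)).symm with e | e
    · exact absurd (Subtype.ext (Subtype.ext e)) hc
    · intro p hp
      have := hcom p hp
      rwa [e] at this
  obtain ⟨N, hN, hodd, hcomm⟩ := Cfsg.Agent.S0215.result P z h.hz hzP fun g hg =>
    hcon g (Subgroup.mem_centralizer_singleton_iff.mpr (hzcen _ hg))
  rcases hN.eq_bot_or_eq_top with e | e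
  · have hzc : z ∈ Subgroup.center G := Subgroup.mem_center_iff.mpr fun g => by
      have := hcomm g
      rw [e, Subgroup.mem_bot, mul_inv_eq_one, mul_inv_eq_iff_eq_mul] at this
      exact this.symm
    rcases (inferInstance : (Subgroup.center G).Normal).eq_bot_or_eq_top with e' | e'
    · exact h.ne_one (Subgroup.mem_bot.mp (e' ▸ hzc))
    · obtain ⟨a, b, ha, hb, hab⟩ : ∃ a b : G, a ∈ Q ∧ b ∈ Q ∧ a * b ≠ b * a := by
        by_contra hno
        push Not at hno
        have hsub : ∀ q ∈ Q, q = 1 ∨ q = z := fun q hq => h.cen q hq fun r hr => hno q r hq hr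
        classical
        have hle : Nat.card Q ≤ 2 := by
          rw [← SetLike.coe_sort_coe, Nat.card_coe_set_eq]
          refine (Set.ncard_le_ncard (t := {1, z}) (fun q hq => hsub q hq) (Set.toFinite _)).trans ?_
          exact (Set.ncard_insert_le _ _).trans (by simp)
        rw [h.card_Q] at hle
        omega
      exact hab (Subgroup.mem_center_iff.mp (e' ▸ Subgroup.mem_top b) a)
  · rw [e, Subgroup.card_top] at hodd
    have h2 : 2 ∣ Nat.card G := h.hz ▸ orderOf_dvd_natCard z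
    exact Nat.not_even_iff_odd.mpr hodd (even_iff_two_dvd.mpr h2)

/-- The hypothesis of the uniqueness theorem for a simple group with two classes of involutions. -/
theorem setting_of_simple [Finite G] [IsSimpleGroup G] {z : G} {Q : Subgroup G} (h : Core z Q)
    (two : ∃ x y : G, orderOf x = 2 ∧ orderOf y = 2 ∧ ¬ IsConj x y) : Setting z Q := by
  refine ⟨h, ?_, two⟩
  by_contra hn
  push Not at hn
  have hX : ∀ w ∈ nonCentralInvol z Q, ¬ IsConj w z := fun w hw e => by
    obtain ⟨c, hc⟩ := isConj_iff.mp e.symm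
    exact hw.2.2.2 (hc ▸ hn c (hc ▸ hw.1))
  obtain ⟨g, hgC, hgne⟩ := exists_conj_in_C h
  set y := g * z * g⁻¹ with hy
  have hyQ : y ∉ Q := fun e => hgne (hn g e)
  have hy2 : y * y = 1 := by rw [hy, conj_mul, h.z_sq, mul_one, mul_inv_cancel]
  have hyz : IsConj y z := (isConj_iff.mpr ⟨g, rfl⟩ : IsConj z y).symm
  obtain ⟨M⟩ := h.model
  have hout : ∀ w ∈ Subgroup.centralizer ({z} : Set G), w * w = 1 → w ∉ Q → IsConj w z := by
    intro w hw hw2 hwQ
    obtain ⟨c, -, hc⟩ := M.outside_conj h hgC hy2 hyQ hw hw2 hwQ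
    exact ((isConj_iff.mpr ⟨c, hc⟩ : IsConj y w).symm).trans hyz
  obtain ⟨x, σ, L⟩ := local_data h hgC hy2 hyQ
  obtain ⟨hxQ, hx2, hx1, hxz⟩ := L.xX
  set w := g⁻¹ * x * g with hw
  have hwx : IsConj w x := isConj_iff.mpr ⟨g, by rw [hw]; group⟩
  have hwC : w ∈ Subgroup.centralizer ({z} : Set G) := Subgroup.mem_centralizer_singleton_iff.mpr (by
    have := congrArg (fun u => g⁻¹ * u * g) L.tx.symm
    simpa [hw, hy, mul_assoc] using this)
  have hw2 : w * w = 1 := by rw [hw, show g⁻¹ * x * g * (g⁻¹ * x * g) = g⁻¹ * (x * x) * g by group, hx2]; group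
  have hwQ : w ∈ Q := by
    by_contra e
    exact hX x L.xX (hwx.symm.trans (hout w hwC hw2 e))
  have hwX : w ∈ nonCentralInvol z Q := ⟨hwQ, hw2, fun e => hx1 (by
      have := congrArg (fun u => g * u * g⁻¹) e
      simpa [hw, mul_assoc] using this), fun e => hX x L.xX (hwx.symm.trans (e ▸ IsConj.refl _))⟩
  have hxy : IsConj (y * x) z := by
    refine hout _ (mul_mem hgC (h.le_C hxQ)) ?_ fun e => hyQ ?_
    · rw [mul_assoc, ← mul_assoc x, ← L.tx, mul_assoc y x, hx2, mul_one, hy2]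
    · simpa using Q.mul_mem e (Q.inv_mem hxQ)
  refine hX _ (h.zmul_mem hwX) ((isConj_iff.mpr ⟨g, ?_⟩ : IsConj (z * w) (y * x)).trans hxy)
  rw [hw, hy]; group

end Cfsg.Agent.Invol.HJ.Uniq
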